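import Groth.Agent.AlgSpCov.Instances
import Groth.Agent.DiagRig.WeilLocus.Basic
import Groth.Prelude.Def_Red2
import Mathlib.AlgebraicGeometry.Morphisms.Flat
import Mathlib.AlgebraicGeometry.Morphisms.FlatMono
import Mathlib.AlgebraicGeometry.Morphisms.FlatDescent

/-!
# Homomorphisms determined on an open neighbourhood of the unit

For smooth group schemes with connected geometric fibres, translates of an open neighbourhood of the unit
cover the group locally for the smooth topology; hence properties of a homomorphism on such a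
neighbourhood propagate to the whole group.
-/

set_option autoImplicit false
universe u

open CategoryTheory MonoidalCategory CartesianMonoidalCategory MonObj GrpObj AlgebraicGeometry Limits

noncomputable section

namespace Groth.Agent.CellHom

variable {S : Scheme.{u}}

lemma smooth_fst (X Y : Over S) [Smooth Y.hom] : Smooth (fst X Y).left := by
  rw [Over.fst_left]; infer_instance

lemma smooth_snd (X Y : Over S) [Smooth X.hom] : Smooth (snd X Y).left := by
  rw [Over.snd_left]; infer_instance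

lemma whiskerLeft_left (P : MorphismProperty Scheme.{u}) [P.IsStableUnderBaseChange]
    (X : Over S) {A B : Over S} (φ : A ⟶ B) (h : P φ.left) : P (X ◁ φ).left := by
  refine MorphismProperty.of_isPullback (f := (snd X B).left) (f' := (snd X A).left) ?_ h
  refine IsPullback.of_bot (v₂₁ := (fst X B).left) (v₂₂ := B.hom) (h₃₁ := X.hom) ?_ ?_ ?_
  rotate_right
  · exact (IsPullback.of_hasPullback X.hom B.hom).flip
  · have e : (X ◁ φ).left ≫ (fst X B).left = (fst X A).left := by
      rw [← Over.comp_left, whiskerLeft_fst]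
    rw [e, Over.w]
    exact (IsPullback.of_hasPullback X.hom A.hom).flip
  · simp only [← Over.comp_left, whiskerLeft_snd]

variable (G : Over S) [GrpObj G]

/-- Left translation by a point, over the base of the point. -/
def transl {X : Over S} (g : X ⟶ G) : X ⊗ G ≅ X ⊗ G where
  hom := lift (fst X G) ((fst X G ≫ g) * snd X G)
  inv := lift (fst X G) ((fst X G ≫ g)⁻¹ * snd X G)
  hom_inv_id := by
    ext <;> simp [MonObj.comp_mul, GrpObj.comp_inv]
  inv_hom_id := by
    ext <;> simp [MonObj.comp_mul, GrpObj.comp_inv]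

/-- The shear `(a, b) ↦ (a * b, b)`. -/
def shearR : G ⊗ G ≅ G ⊗ G where
  hom := lift (fst G G * snd G G) (snd G G)
  inv := lift (fst G G * (snd G G)⁻¹) (snd G G)
  hom_inv_id := by
    ext <;> simp [MonObj.comp_mul, GrpObj.comp_inv]
  inv_hom_id := by
    ext <;> simp [MonObj.comp_mul, GrpObj.comp_inv]

/-- Geometric fibres are connected. -/
def ConnFibres : Prop := ∀ s : S, ConnectedSpace ↥(pullback G.hom (Red.geomPt s))

lemma connFibres_of_isReductive (hG : Red.IsReductive G) : ConnFibres G := fun s => (hG.2.2 s).2.2.1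

variable {G}

lemma irreducible_fibre [Smooth G.hom] (hc : ConnFibres G) (X : Over S) (x : X.left) :
    IrreducibleSpace ↥((fst X G).left.fiber x) := by
  let iW := X.left.fromSpecResidueField x
  let e : pullback G.hom (iW ≫ X.hom) ≅ (fst X G).left.fiber x :=
    (pullbackSymmetry _ _) ≪≫ (pullbackRightPullbackFstIso X.hom G.hom iW).symm ≪≫
      pullbackSymmetry _ _
  have := DiagRig.WeilLocus.irreducibleSpace_geom G.hom hc (X.left.residueField x) (iW ≫ X.hom)
  exact (Scheme.homeoOfIso e).irreducibleSpace_iff.mp this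

/-- Two open subsets meeting every fibre meet fibrewise. -/
lemma surjective_inf [Smooth G.hom] (hc : ConnFibres G) (X : Over S) (V₁ V₂ : (X ⊗ G).left.Opens)
    (h₁ : ∀ x, ∃ v ∈ V₁, (fst X G).left v = x) (h₂ : ∀ x, ∃ v ∈ V₂, (fst X G).left v = x) (x : X.left) :
    ∃ v, v ∈ V₁ ⊓ V₂ ∧ (fst X G).left v = x := by
  have := irreducible_fibre hc X x
  let p := (fst X G).left
  have hr : ∀ v, p v = x → ∃ w, (p.fiberι x) w = v := fun v hv => by
    have : v ∈ Set.range (p.fiberι x) := by rw [Scheme.Hom.range_fiberι]; exact hv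
    exact this
  obtain ⟨v, hv, hvx⟩ := h₁ x
  obtain ⟨w₁, rfl⟩ := hr v hvx
  obtain ⟨v', hv', hvx'⟩ := h₂ x
  obtain ⟨w₂, rfl⟩ := hr v' hvx'
  obtain ⟨w, -, hw₁, hw₂⟩ := (IrreducibleSpace.isIrreducible_univ ↥(p.fiber x)).2 _ _
    (V₁.2.preimage (p.fiberι x).continuous) (V₂.2.preimage (p.fiberι x).continuous)
    ⟨w₁, trivial, hv⟩ ⟨w₂, trivial, hv'⟩
  refine ⟨p.fiberι x w, ⟨hw₁, hw₂⟩, ?_⟩
  have : p.fiberι x w ∈ Set.range (p.fiberι x) := ⟨w, rfl⟩
  rw [Scheme.Hom.range_fiberι] at this
  exact this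

/-- Locally for the smooth topology every point is a quotient of two points of an open neighbourhood
of the unit. -/
theorem exists_translate [Smooth G.hom] (hc : ConnFibres G) {U : Over S} (j : U ⟶ G)
    [IsOpenImmersion j.left] (e : 𝟙_ (Over S) ⟶ U) (he : e ≫ j = 1) {X : Over S} (g : X ⟶ G) :
    ∃ (W : Over S) (π : W ⟶ X) (a b : W ⟶ U), Smooth π.left ∧ Surjective π.left ∧
      (π ≫ g) * (a ≫ j) = b ≫ j := by
  let q₂ : X ⊗ G ⟶ G := (fst X G ≫ g) * snd X G
  let V₁ : (X ⊗ G).left.Opens := (snd X G).left ⁻¹ᵁ j.left.opensRange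
  let V₂ : (X ⊗ G).left.Opens := q₂.left ⁻¹ᵁ j.left.opensRange
  have hsec : ∀ (s : X ⟶ X ⊗ G), s ≫ fst X G = 𝟙 X → ∀ (r : X ⊗ G ⟶ G), s ≫ r = 1 →
      ∀ x, ∃ v, r.left v ∈ j.left.opensRange ∧ (fst X G).left v = x := by
    intro s hs r hr x
    refine ⟨s.left x, ?_, ?_⟩
    · have e1 : s ≫ r = (toUnit X ≫ e) ≫ j := by
        rw [hr, Category.assoc, he, MonObj.comp_one]
      refine ⟨(toUnit X ≫ e).left x, ?_⟩
      rw [← Scheme.Hom.comp_apply, ← Over.comp_left, ← e1, Over.comp_left, Scheme.Hom.comp_apply]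
    · rw [← Scheme.Hom.comp_apply, ← Over.comp_left, hs]; rfl
  have h₁ := hsec (lift (𝟙 X) 1) (lift_fst _ _) (snd X G) (lift_snd _ _)
  have h₂ := hsec (lift (𝟙 X) g⁻¹) (lift_fst _ _) q₂ (by
    simp only [q₂, MonObj.comp_mul, lift_fst_assoc, Category.id_comp, lift_snd, mul_inv_cancel])
  let W : Over S := Over.mk ((V₁ ⊓ V₂).ι ≫ (X ⊗ G).hom)
  let iW : W ⟶ X ⊗ G := Over.homMk (V₁ ⊓ V₂).ι rfl
  have hl : ∀ (r : X ⊗ G ⟶ G), (∀ v, v ∈ V₁ ⊓ V₂ → r.left v ∈ j.left.opensRange) →
      ∃ a : W ⟶ U, a ≫ j = iW ≫ r := by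
    intro r hr
    have hsub : Set.range (iW ≫ r).left ⊆ Set.range j.left := by
      rintro _ ⟨v, rfl⟩
      exact hr v.1 v.2
    exact ⟨Over.homMk (IsOpenImmersion.lift j.left (iW ≫ r).left hsub) (by
      rw [← Over.w j, IsOpenImmersion.lift_fac_assoc, Over.w]),
      Over.OverMorphism.ext (IsOpenImmersion.lift_fac _ _ _)⟩
  obtain ⟨a, ha⟩ := hl (snd X G) fun v hv => hv.1
  obtain ⟨b, hb⟩ := hl q₂ fun v hv => hv.2
  refine ⟨W, iW ≫ fst X G, a, b, ?_, ⟨fun x => ?_⟩, ?_⟩
  · have := smooth_fst X G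
    rw [Over.comp_left]
    exact inferInstanceAs (Smooth ((V₁ ⊓ V₂).ι ≫ (fst X G).left))
  · obtain ⟨v, hv, hvx⟩ := surjective_inf hc X V₁ V₂ h₁ h₂ x
    exact ⟨⟨v, hv⟩, hvx⟩
  · rw [ha, hb, MonObj.comp_mul, Category.assoc]

lemma epi_of_smooth {W X : Over S} (π : W ⟶ X) (hs : Smooth π.left) (hp : Surjective π.left) : Epi π := by
  have : Epi π.left := AlgebraicGeometry.Flat.epi_of_flat_of_surjective π.left
  exact Over.epi_of_epi_left π

/-- A point lands in a monomorphism as soon as it does so on a smooth cover. -/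
theorem exists_lift_of_cover {A B X W : Over S} (y : A ⟶ B) [Mono y] (x : X ⟶ B) (π : W ⟶ X)
    (hs : Smooth π.left) (hp : Surjective π.left) (l : W ⟶ A) (hl : l ≫ y = π ≫ x) :
    ∃ k : X ⟶ A, k ≫ y = x := by
  have : Mono y.left := inferInstanceAs (Mono ((Over.forget S).map y))
  let p := pullback.fst x.left y.left
  let q := pullback.snd p π.left
  let r : W.left ⟶ pullback p π.left :=
    pullback.lift (pullback.lift π.left l.left (by rw [← Over.comp_left, ← Over.comp_left, hl]))
      (𝟙 _) (by rw [pullback.lift_fst, Category.id_comp])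
  have hrq : r ≫ q = 𝟙 _ := pullback.lift_snd _ _ _
  have : IsSplitEpi q := IsSplitEpi.mk' ⟨r, hrq⟩
  have hq : IsIso q := isIso_of_mono_of_isSplitEpi q
  have : IsIso p := MorphismProperty.of_isPullback_of_descendsAlong
    (P := MorphismProperty.isomorphisms Scheme.{u}) (Q := @Surjective ⊓ @Flat ⊓ @LocallyOfFinitePresentation)
    (IsPullback.of_hasPullback p π.left).flip ⟨⟨hp, inferInstance⟩, inferInstance⟩ hq
  refine ⟨Over.homMk (inv p ≫ pullback.snd x.left y.left) ?_, Over.OverMorphism.ext ?_⟩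
  · rw [← Over.w y, Category.assoc, ← pullback.condition_assoc, IsIso.inv_hom_id_assoc, Over.w x]
  · show (inv p ≫ pullback.snd x.left y.left) ≫ y.left = x.left
    rw [Category.assoc, ← pullback.condition, IsIso.inv_hom_id_assoc]

/-- A homomorphism is a monomorphism if it is injective on a neighbourhood of the unit. -/
theorem mono_of_open [Smooth G.hom] (hc : ConnFibres G) {H : Over S} [GrpObj H] (f : G ⟶ H) [IsMonHom f]
    {U : Over S} (j : U ⟶ G) [IsOpenImmersion j.left] (e : 𝟙_ (Over S) ⟶ U) (he : e ≫ j = 1)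
    [Mono (j ≫ f)] : Mono f := by
  refine ⟨fun {X} g h hgh => ?_⟩
  obtain ⟨W, π, a, b, hs, hp, hab⟩ := exists_translate hc j e he (g * h⁻¹)
  have : b ≫ j ≫ f = a ≫ j ≫ f := by
    rw [← Category.assoc, ← hab, MonObj.mul_comp, Category.assoc π, MonObj.mul_comp, GrpObj.inv_comp,
      hgh, mul_inv_cancel, MonObj.comp_one, _root_.one_mul, Category.assoc]
  rw [cancel_mono] at this
  rw [this, mul_eq_right] at hab
  have := epi_of_smooth π hs hp
  rw [← MonObj.comp_one π, cancel_epi] at hab
  exact mul_inv_eq_one.mp hab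

/-- Multiplication restricted to `G × U`. -/
def mulMap {U : Over S} (j : U ⟶ G) : G ⊗ U ⟶ G := (G ◁ j) ≫ μ[G]

lemma smooth_mulMap [Smooth G.hom] {U : Over S} (j : U ⟶ G) [IsOpenImmersion j.left] :
    Smooth (mulMap j).left := by
  have : μ[G] = (shearR G).hom ≫ fst G G := by
    simp [shearR, Hom.mul_def]
  rw [mulMap, this, Over.comp_left, Over.comp_left]
  have : IsOpenImmersion (G ◁ j).left := whiskerLeft_left @IsOpenImmersion G j inferInstance
  have : IsIso (shearR G).hom.left := inferInstanceAs (IsIso ((Over.forget S).map (shearR G).hom))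
  have := smooth_fst G G
  infer_instance

lemma surjective_mulMap {U : Over S} (j : U ⟶ G) (e : 𝟙_ (Over S) ⟶ U) (he : e ≫ j = 1) :
    Surjective (mulMap j).left := by
  refine ⟨fun x => ⟨(lift (𝟙 G) (toUnit G ≫ e)).left x, ?_⟩⟩
  rw [← Scheme.Hom.comp_apply, ← Over.comp_left, mulMap, lift_whiskerLeft_assoc, Category.assoc, he,
    MonObj.comp_one, ← Hom.mul_def, _root_.mul_one]
  rfl

lemma mulMap_comp {H U : Over S} [GrpObj H] (f : G ⟶ H) [IsMonHom f] (j : U ⟶ G) :
    mulMap j ≫ f = (G ◁ (j ≫ f)) ≫ (transl H f).hom ≫ snd G H := by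
  rw [mulMap, Category.assoc, IsMonHom.mul_hom]
  simp only [transl, lift_snd, MonObj.comp_mul, whiskerLeft_fst_assoc, whiskerLeft_snd]
  rw [← Category.assoc, Hom.mul_def]
  congr 1
  ext <;> simp

/-- Smoothness of a homomorphism follows from smoothness near the unit. -/
theorem smooth_of_open [Smooth G.hom] {H : Over S} [GrpObj H] (f : G ⟶ H) [IsMonHom f] {U : Over S}
    (j : U ⟶ G) [IsOpenImmersion j.left] (e : 𝟙_ (Over S) ⟶ U) (he : e ≫ j = 1)
    (hφ : Smooth (j ≫ f).left) : Smooth f.left := by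
  have := smooth_mulMap j
  have := surjective_mulMap j e he
  refine AlgSpCov.smooth_of_comp_smooth (mulMap j).left f.left ?_
  rw [← Over.comp_left, mulMap_comp, Over.comp_left, Over.comp_left]
  have : Smooth (G ◁ (j ≫ f)).left := whiskerLeft_left @Smooth G _ hφ
  have : IsIso (transl H f).hom.left := inferInstanceAs (IsIso ((Over.forget S).map (transl H f).hom))
  have := smooth_snd G H
  infer_instance

/-- Flatness of a homomorphism follows from flatness near the unit. -/
theorem flat_of_open [Smooth G.hom] {H : Over S} [GrpObj H] (f : G ⟶ H) [IsMonHom f] {U : Over S}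
    (j : U ⟶ G) [IsOpenImmersion j.left] (e : 𝟙_ (Over S) ⟶ U) (he : e ≫ j = 1)
    (hφ : Flat (j ≫ f).left) : Flat f.left := by
  have := smooth_mulMap j
  have := surjective_mulMap j e he
  refine AlgSpCov.flat_of_comp_smooth (mulMap j).left f.left ?_
  rw [← Over.comp_left, mulMap_comp, Over.comp_left, Over.comp_left]
  have : Flat (G ◁ (j ≫ f)).left := whiskerLeft_left @Flat G _ hφ
  have : IsIso (transl H f).hom.left := inferInstanceAs (IsIso ((Over.forget S).map (transl H f).hom))
  have := smooth_snd G H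
  infer_instance

/-- A homomorphism is surjective if its image contains a neighbourhood of the unit. -/
theorem surjective_of_open {H : Over S} [GrpObj H] [Smooth H.hom] (hc : ConnFibres H) (f : G ⟶ H)
    [IsMonHom f] {U U' : Over S} (j : U ⟶ G) (j' : U' ⟶ H) [IsOpenImmersion j'.left]
    (φ : U ⟶ U') [Surjective φ.left] (hφ : j ≫ f = φ ≫ j')
    (e' : 𝟙_ (Over S) ⟶ U') (he' : e' ≫ j' = 1) : Surjective f.left := by
  obtain ⟨W, π, a, b, -, hp, hab⟩ := exists_translate hc j' e' he' (𝟙 H)
  have hlift : ∀ {V : Over S} (v : V ⟶ U'), ∃ (V' : Over S) (p : V' ⟶ V) (w : V' ⟶ U),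
      Surjective p.left ∧ w ≫ φ = p ≫ v := by
    intro V v
    refine ⟨Over.mk (pullback.fst v.left φ.left ≫ V.hom), Over.homMk (pullback.fst v.left φ.left) rfl,
      Over.homMk (pullback.snd v.left φ.left) ?_, ?_, ?_⟩
    · rw [← Over.w φ, ← pullback.condition_assoc, Over.w v]; rfl
    · exact inferInstanceAs (Surjective (pullback.fst v.left φ.left))
    · exact Over.OverMorphism.ext pullback.condition.symm
  obtain ⟨W₁, p₁, a₁, hp₁, ha⟩ := hlift a
  obtain ⟨W₂, p₂, b₂, hp₂, hb⟩ := hlift (p₁ ≫ b)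
  have key : ((b₂ ≫ j) * (p₂ ≫ a₁ ≫ j)⁻¹) ≫ f = p₂ ≫ p₁ ≫ π := by
    rw [MonObj.mul_comp, GrpObj.inv_comp, Category.assoc, hφ, Category.assoc, Category.assoc, hφ,
      ← Category.assoc a₁, ha, ← Category.assoc b₂, hb]
    simp only [Category.assoc]
    rw [← hab, Category.comp_id]
    simp only [MonObj.comp_mul, mul_inv_cancel_right]
  have hs : Surjective (((b₂ ≫ j) * (p₂ ≫ a₁ ≫ j)⁻¹) ≫ f).left := by
    rw [key, Over.comp_left, Over.comp_left]
    infer_instance
  rw [Over.comp_left] at hs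
  exact Surjective.of_comp (((b₂ ≫ j) * (p₂ ≫ a₁ ≫ j)⁻¹)).left f.left

/-- A homomorphism restricting to an isomorphism of neighbourhoods of the unit is an isomorphism. -/
theorem isIso_of_open [Smooth G.hom] {H : Over S} [GrpObj H] [Smooth H.hom] (hG : ConnFibres G)
    (hH : ConnFibres H) (f : G ⟶ H) [IsMonHom f] {U U' : Over S} (j : U ⟶ G) (j' : U' ⟶ H)
    [IsOpenImmersion j.left] [IsOpenImmersion j'.left] (φ : U ⟶ U') [IsIso φ] (hφ : j ≫ f = φ ≫ j')
    (e : 𝟙_ (Over S) ⟶ U) (he : e ≫ j = 1) : IsIso f := by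
  have : IsIso φ.left := inferInstanceAs (IsIso ((Over.forget S).map φ))
  have : Mono j' := Over.mono_of_mono_left _
  have : Mono (j ≫ f) := by rw [hφ]; infer_instance
  have := mono_of_open hG f j e he
  have : Mono f.left := inferInstanceAs (Mono ((Over.forget S).map f))
  have : Smooth f.left := smooth_of_open f j e he (by rw [hφ, Over.comp_left]; infer_instance)
  have : Surjective f.left := surjective_of_open hH f j j' φ hφ (e ≫ φ) (by
    rw [Category.assoc, ← hφ, ← Category.assoc, he, MonObj.one_comp])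
  have := IsOpenImmersion.of_flat_of_mono f.left
  have : IsIso f.left := (isIso_iff_isOpenImmersion_and_epi_base _).mpr ⟨inferInstance,
    (TopCat.epi_iff_surjective _).mpr f.left.surjective⟩
  have : IsIso ((Over.forget S).map f) := ‹IsIso f.left›
  exact isIso_of_reflects_iso f (Over.forget S)

end Groth.Agent.CellHom
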