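import Groth.Agent.CellHom.RankOne
import Mathlib.AlgebraicGeometry.Sites.Fpqc

/-!
# Extension of a map of big cells to a homomorphism
-/

set_option autoImplicit false
universe u

open CategoryTheory MonoidalCategory CartesianMonoidalCategory MonObj GrpObj AlgebraicGeometry Limits
open Groth.Agent.RedPts Groth.Agent.Cor85

noncomputable section

namespace Groth.Agent.CellHom

attribute [local instance] Sys.hi Sys.hα Sys.hav Sys.hp Sys.hm

variable {S : Scheme.{u}} {G T G' T' : Over S} [GrpObj G] [GrpObj T] [GrpObj G'] [GrpObj T']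

/-- The source of the cell map. -/
abbrev C (T : Over S) : Over S := (Red.Ga S ⊗ T) ⊗ Red.Ga S

/-- First coordinate. -/
def yO {X : Over S} (w : X ⟶ C T) : Γ(X.left, ⊤) := Red.gaFn (w ≫ fst _ _ ≫ fst _ _)
/-- Torus coordinate. -/
def tO {X : Over S} (w : X ⟶ C T) : X ⟶ T := w ≫ fst _ _ ≫ snd _ _
/-- Last coordinate. -/
def xO {X : Over S} (w : X ⟶ C T) : Γ(X.left, ⊤) := Red.gaFn (w ≫ snd _ _)
/-- A point of the cell. -/
def mkC {X : Over S} (y : Γ(X.left, ⊤)) (t : X ⟶ T) (x : Γ(X.left, ⊤)) : X ⟶ C T :=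
  lift (lift (gaPt y) t) (gaPt x)

section
omit [GrpObj T]
lemma yO_mk {X : Over S} (y : Γ(X.left, ⊤)) (t : X ⟶ T) (x : Γ(X.left, ⊤)) : yO (mkC y t x) = y := by
  simp [yO, mkC, gaFn_gaPt]
lemma tO_mk {X : Over S} (y : Γ(X.left, ⊤)) (t : X ⟶ T) (x : Γ(X.left, ⊤)) : tO (mkC y t x) = t := by
  simp [tO, mkC]
lemma xO_mk {X : Over S} (y : Γ(X.left, ⊤)) (t : X ⟶ T) (x : Γ(X.left, ⊤)) : xO (mkC y t x) = x := by
  simp [xO, mkC, gaFn_gaPt]
lemma yO_comp {X Y : Over S} (h : Y ⟶ X) (w : X ⟶ C T) : yO (h ≫ w) = h.left.appTop (yO w) := by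
  simp only [yO, Category.assoc]; exact ga_comp _ _
lemma xO_comp {X Y : Over S} (h : Y ⟶ X) (w : X ⟶ C T) : xO (h ≫ w) = h.left.appTop (xO w) := by
  simp only [xO, Category.assoc]; exact ga_comp _ _
lemma tO_comp {X Y : Over S} (h : Y ⟶ X) (w : X ⟶ C T) : tO (h ≫ w) = h ≫ tO w := by
  simp only [tO, Category.assoc]
end

lemma cell_eq (D : Sys S G T) {X : Over S} (w : X ⟶ C T) :
    w ≫ cell D = (D.rk X).M (yO w) * (D.rk X).it (tO w) * (D.rk X).P (xO w) := by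
  have e : w = lift (lift (w ≫ fst _ _ ≫ fst _ _) (tO w)) (w ≫ snd _ _) := by
    ext <;> simp [tO]
  conv_lhs => rw [e, lift_cell, D.pm_eq, D.pp_eq]
  rfl

/-- The unit point of the cell over `X`. -/
def one (X : Over S) : X ⟶ C T := mkC 0 1 0

lemma one_cell (D : Sys S G T) (X : Over S) : one X ≫ cell D = 1 := by
  rw [cell_eq, one, yO_mk, tO_mk, xO_mk, Rk1.M_zero, Rk1.P_zero, map_one, _root_.one_mul, _root_.one_mul]

lemma yO_one (X : Over S) : yO (one (T := T) X) = 0 := yO_mk _ _ _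

lemma xO_one (X : Over S) : xO (one (T := T) X) = 0 := xO_mk _ _ _

lemma tO_one (X : Over S) : tO (one (T := T) X) = 1 := tO_mk _ _ _

/-- Two points of the cell whose product is computed by the formula. -/
def Good {X : Over S} (a r : X ⟶ C T) : Prop := IsUnit (1 + xO a * yO r)

omit [GrpObj T] in
lemma Good.comp {X Y : Over S} (h : Y ⟶ X) {a r : X ⟶ C T} (hg : Good a r) : Good (h ≫ a) (h ≫ r) := by
  have := hg.map h.left.appTop.hom
  rwa [map_add, map_one, map_mul, ← xO_comp, ← yO_comp] at this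

variable (D : Sys S G T) (D' : Sys S G' T') (q : ℕ) (c : 𝟙_ (Over S) ⟶ Red.Gm S) (fT : T ⟶ T')

/-- The map on the cell. -/
def phi : C T ⟶ G' :=
  (D'.rk (C T)).M ((↑(cu c (C T))⁻¹ : Γ((C T).left, ⊤)) * yO (𝟙 (C T)) ^ q) *
    (D'.rk (C T)).it (tO (𝟙 (C T)) ≫ fT) *
    (D'.rk (C T)).P ((cu c (C T) : Γ((C T).left, ⊤)) * xO (𝟙 (C T)) ^ q)

lemma cu_comp {X Y : Over S} (h : Y ⟶ X) :
    h.left.appTop (cu c X : Γ(X.left, ⊤)) = (cu c Y : Γ(Y.left, ⊤)) := by
  rw [gmU_val, gmU_val, ← gm_comp, ← Category.assoc, toUnit_unique (h ≫ toUnit X) (toUnit Y)]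

lemma cu_inv_comp {X Y : Over S} (h : Y ⟶ X) :
    h.left.appTop (↑(cu c X)⁻¹ : Γ(X.left, ⊤)) = (↑(cu c Y)⁻¹ : Γ(Y.left, ⊤)) := by
  apply (cu c Y).isUnit.mul_left_cancel
  conv_lhs => rw [← cu_comp c h, ← map_mul, Units.mul_inv, map_one]
  rw [Units.mul_inv]

lemma phi_eq {X : Over S} (w : X ⟶ C T) :
    w ≫ phi D' q c fT = (D'.rk X).M ((↑(cu c X)⁻¹ : Γ(X.left, ⊤)) * yO w ^ q) *
      (D'.rk X).it (tO w ≫ fT) * (D'.rk X).P ((cu c X : Γ(X.left, ⊤)) * xO w ^ q) := by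
  rw [phi, MonObj.comp_mul, MonObj.comp_mul, D'.comp_M, D'.comp_P, ← D'.i_eq, ← D'.i_eq]
  simp only [map_mul, map_pow, cu_comp, cu_inv_comp, ← yO_comp, ← xO_comp, Category.comp_id]
  rw [← Category.assoc, ← Category.assoc, ← tO_comp, Category.comp_id]

lemma gmU_pow {X : Over S} (z : X ⟶ Red.Gm S) (n : ℕ) : gmU (z ^ n) = gmU z ^ n :=
  map_pow (MonoidHom.mk' (fun z : X ⟶ Red.Gm S => gmU z) fun a b => Units.ext (by
    simp only [Units.val_mul, gmU_val, gm_mul])) z n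

variable (hq0 : 0 < q) (hq : ∀ (X : Over S) (a b : Γ(X.left, ⊤)), (a + b) ^ q = a ^ q + b ^ q)
  (hfTα : fT ≫ D'.α = D.α ^ q) (hfTav : D.av ≫ fT = D'.av ^ q) [IsMonHom fT]

include hq0 in
lemma one_phi (X : Over S) : one X ≫ phi D' q c fT = 1 := by
  rw [phi_eq, yO_one, xO_one, tO_one, zero_pow hq0.ne', mul_zero, mul_zero, Rk1.M_zero, Rk1.P_zero,
    MonObj.one_comp, map_one, _root_.one_mul, _root_.one_mul]

include hq hfTα hfTav in
/-- Products in the cell are respected. -/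
lemma exists_mul {X : Over S} {a r : X ⟶ C T} (h : Good a r) :
    ∃ s : X ⟶ C T, s ≫ cell D = (a ≫ cell D) * (r ≫ cell D) ∧
      s ≫ phi D' q c fT = (a ≫ phi D' q c fT) * (r ≫ phi D' q c fT) := by
  obtain ⟨v, hv⟩ : ∃ v : (Γ(X.left, ⊤))ˣ, (v : Γ(X.left, ⊤)) = 1 + xO a * yO r := ⟨h.unit, rfl⟩
  let R := D.rk X
  let R' := D'.rk X
  refine ⟨mkC (yO a + (↑(R.χ (tO a))⁻¹ : Γ(X.left, ⊤)) * ((↑v⁻¹ : Γ(X.left, ⊤)) * yO r))
    (tO a * R.av v * tO r) ((↑(R.χ (tO r))⁻¹ : Γ(X.left, ⊤)) * ((↑v⁻¹ : Γ(X.left, ⊤)) * xO a) + xO r), ?_, ?_⟩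
  · rw [cell_eq, cell_eq, cell_eq, yO_mk, tO_mk, xO_mk, R.cell_mul _ _ _ _ _ _ v hv]
  · have hχ : ∀ t : X ⟶ T, R'.χ (t ≫ fT) = R.χ t ^ q := fun t => by
      show gmU ((t ≫ fT) ≫ D'.α) = gmU (t ≫ D.α) ^ q
      rw [← gmU_pow, Category.assoc, hfTα, MonObj.comp_pow]
    have hav : R.av v ≫ fT = R'.av (v ^ q) := by
      rw [map_pow]
      show (gmPt v ≫ D.av) ≫ fT = (gmPt v ≫ D'.av) ^ q
      rw [Category.assoc, hfTav, MonObj.comp_pow]
    have hu : ((v ^ q : (Γ(X.left, ⊤))ˣ) : Γ(X.left, ⊤)) = 1 + ((cu c X : Γ(X.left, ⊤)) * xO a ^ q) *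
        ((↑(cu c X)⁻¹ : Γ(X.left, ⊤)) * yO r ^ q) := by
      rw [Units.val_pow_eq_pow_val, hv, hq, one_pow, mul_pow]
      linear_combination (-(xO a ^ q) * yO r ^ q) * (cu c X).mul_inv
    rw [phi_eq, phi_eq, phi_eq, yO_mk, tO_mk, xO_mk, R'.cell_mul _ _ _ _ _ _ (v ^ q) hu, MonObj.mul_comp,
      MonObj.mul_comp, hav, hχ, hχ, ← inv_pow, ← inv_pow, ← inv_pow, Units.val_pow_eq_pow_val,
      Units.val_pow_eq_pow_val, Units.val_pow_eq_pow_val, hq, hq, mul_pow, mul_pow, mul_pow, mul_pow]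
    congr 2
    · congr 2; ring
    · ring

section Opens

variable [Smooth G.hom] [IsOpenImmersion (cell D).left]

instance isOpenImmersion_whisker (X : Over S) : IsOpenImmersion (X ◁ cell D).left :=
  whiskerLeft_left @IsOpenImmersion X (cell D) inferInstance

/-- Points of the cell forming a good pair with `a`. -/
def goodOpen {X : Over S} (a : X ⟶ C T) : (X ⊗ G).left.Opens :=
  (X ◁ cell D).left ''ᵁ (X ⊗ C T).left.basicOpen
    (1 + xO (fst X (C T) ≫ a) * yO (snd X (C T)))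

omit [Smooth G.hom] in
lemma goodOpen_surj {X : Over S} (a : X ⟶ C T) (x : X.left) :
    ∃ v ∈ goodOpen D a, (fst X G).left v = x := by
  let s : X ⟶ X ⊗ C T := lift (𝟙 X) (one X)
  refine ⟨(X ◁ cell D).left (s.left x), ⟨s.left x, ?_, rfl⟩, ?_⟩
  · show s.left x ∈ (X ⊗ C T).left.basicOpen _
    have e : s.left ⁻¹ᵁ (X ⊗ C T).left.basicOpen (1 + xO (fst X (C T) ≫ a) * yO (snd X (C T))) = ⊤ := by
      rw [Scheme.preimage_basicOpen_top, map_add, map_one, map_mul, ← yO_comp, lift_snd, yO_one, mul_zero,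
        add_zero, Scheme.basicOpen_one]
    exact e.ge (x := x) trivial
  · rw [← Scheme.Hom.comp_apply, ← Scheme.Hom.comp_apply, ← Over.comp_left, ← Over.comp_left, whiskerLeft_fst,
      lift_fst]
    rfl

omit [Smooth G.hom] in
/-- A point landing in the good open. -/
lemma exists_good {X W : Over S} (a : X ⟶ C T) (v : W ⟶ X ⊗ G)
    (hv : ∀ w, v.left w ∈ goodOpen D a) :
    ∃ r : W ⟶ C T, r ≫ cell D = v ≫ snd X G ∧ Good (v ≫ fst X G ≫ a) r := by
  have hsub : Set.range v.left ⊆ Set.range (X ◁ cell D).left := by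
    rintro _ ⟨w, rfl⟩
    obtain ⟨p, -, hp⟩ := hv w
    exact ⟨p, hp⟩
  let l : W ⟶ X ⊗ C T := Over.homMk (IsOpenImmersion.lift (X ◁ cell D).left v.left hsub) (by
    rw [← Over.w (X ◁ cell D), IsOpenImmersion.lift_fac_assoc, Over.w])
  have hl : l ≫ (X ◁ cell D) = v := Over.OverMorphism.ext (IsOpenImmersion.lift_fac _ _ _)
  refine ⟨l ≫ snd _ _, by rw [← hl, Category.assoc, Category.assoc, whiskerLeft_snd], ?_⟩
  rw [← hl, Category.assoc, whiskerLeft_fst_assoc, Good, xO_comp, yO_comp, ← map_one l.left.appTop.hom,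
    ← map_mul, ← map_add]
  refine W.left.toRingedSpace.isUnit_of_isUnit_germ ⊤ _ fun w _ => ?_
  have hw : w ∈ l.left ⁻¹ᵁ (X ⊗ C T).left.basicOpen (1 + xO (fst X (C T) ≫ a) * yO (snd X (C T))) := by
    obtain ⟨p, hp, hpv⟩ := hv w
    have : l.left w = p := (X ◁ cell D).left.isOpenEmbedding.injective (by
      rw [← Scheme.Hom.comp_apply, ← Over.comp_left, hl]
      exact hpv.symm)
    rw [Scheme.Hom.mem_preimage, this]
    exact hp
  rw [Scheme.preimage_basicOpen_top, Scheme.mem_basicOpen_top] at hw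
  exact hw

/-- An open subset of `X × G` surjecting to `X` as a smooth cover. -/
lemma exists_cover {X : Over S} (V : (X ⊗ G).left.Opens) (hV : ∀ x, ∃ v ∈ V, (fst X G).left v = x) :
    ∃ (W : Over S) (v : W ⟶ X ⊗ G), (∀ w, v.left w ∈ V) ∧ Smooth (v ≫ fst X G).left ∧
      Surjective (v ≫ fst X G).left := by
  refine ⟨Over.mk (V.ι ≫ (X ⊗ G).hom), Over.homMk V.ι rfl, fun w => w.2, ?_, ⟨fun x => ?_⟩⟩
  · have := smooth_fst X G
    rw [Over.comp_left]
    exact inferInstanceAs (Smooth (V.ι ≫ (fst X G).left))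
  · obtain ⟨v, hv, hvx⟩ := hV x
    exact ⟨⟨v, hv⟩, hvx⟩

omit [IsOpenImmersion (cell D).left] [Smooth G.hom] [GrpObj G] [GrpObj T] in
lemma iso_surj {P Q : Scheme.{u}} (e : P ≅ P) (f : P ⟶ Q) (hf : e.inv ≫ f = f) (V : P.Opens)
    (hV : ∀ x, ∃ v ∈ V, f v = x) (x : Q) : ∃ v ∈ e.hom ⁻¹ᵁ V, f v = x := by
  obtain ⟨v, hv, hvx⟩ := hV x
  refine ⟨e.inv v, ?_, ?_⟩
  · show e.hom (e.inv v) ∈ V
    rw [← Scheme.Hom.comp_apply, e.inv_hom_id]
    exact hv
  · rw [← Scheme.Hom.comp_apply, hf]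
    exact hvx

omit [IsOpenImmersion (cell D).left] [Smooth G.hom] in
lemma transl_surj {X : Over S} (g : X ⟶ G) (V : (X ⊗ G).left.Opens)
    (hV : ∀ x, ∃ v ∈ V, (fst X G).left v = x) (x : X.left) :
    ∃ v ∈ (transl G g).hom.left ⁻¹ᵁ V, (fst X G).left v = x := by
  have e : (transl G g).inv ≫ fst X G = fst X G := lift_fst _ _
  exact iso_surj ((Over.forget S).mapIso (transl G g)) (fst X G).left
    (congrArg (fun m => m.left) e : _) V hV x

include hq hfTα hfTav in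
/-- Well-definedness of the extension. -/
lemma key (hc : ConnFibres G) {X : Over S} (g : X ⟶ G) (a b a' b' : X ⟶ C T)
    (h : g * (a ≫ cell D) = b ≫ cell D) (h' : g * (a' ≫ cell D) = b' ≫ cell D) :
    (b ≫ phi D' q c fT) * (a ≫ phi D' q c fT)⁻¹ = (b' ≫ phi D' q c fT) * (a' ≫ phi D' q c fT)⁻¹ := by
  let τ := transl G ((a' ≫ cell D)⁻¹ * (a ≫ cell D))
  have s12 := surjective_inf hc X _ _ (goodOpen_surj D a) (goodOpen_surj D b)
  have s34 := surjective_inf hc X _ _ (transl_surj ((a' ≫ cell D)⁻¹ * (a ≫ cell D)) _ (goodOpen_surj D a'))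
    (transl_surj ((a' ≫ cell D)⁻¹ * (a ≫ cell D)) _ (goodOpen_surj D b'))
  have s := surjective_inf hc X _ _ s12 s34
  obtain ⟨W, v, hv, hs, hp⟩ := exists_cover _ s
  obtain ⟨r, hr, hga⟩ := exists_good D a v fun w => (hv w).1.1
  obtain ⟨r₂, hr₂, hgb⟩ := exists_good D b v fun w => (hv w).1.2
  obtain ⟨r', hr', hga'⟩ := exists_good D a' (v ≫ τ.hom) fun w => (hv w).2.1
  obtain ⟨r₂', hr₂', hgb'⟩ := exists_good D b' (v ≫ τ.hom) fun w => (hv w).2.2
  have : Mono (cell D) := Over.mono_of_mono_left _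
  obtain rfl : r = r₂ := (cancel_mono (cell D)).1 (hr.trans hr₂.symm)
  obtain rfl : r' = r₂' := (cancel_mono (cell D)).1 (hr'.trans hr₂'.symm)
  set π := v ≫ fst X G with hπ
  have hτf : (v ≫ τ.hom) ≫ fst X G = π := by simp [τ, transl, hπ]
  have hτs : (v ≫ τ.hom) ≫ snd X G = π ≫ ((a' ≫ cell D)⁻¹ * (a ≫ cell D)) * (v ≫ snd X G) := by
    simp [τ, transl, hπ, MonObj.comp_mul]
  rw [← Category.assoc, ← hπ] at hga hgb
  rw [← Category.assoc, hτf] at hga' hgb'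
  rw [hτs] at hr'
  obtain ⟨s₁, e₁, f₁⟩ := exists_mul D D' q c fT hq hfTα hfTav hga
  obtain ⟨s₂, e₂, f₂⟩ := exists_mul D D' q c fT hq hfTα hfTav hgb
  obtain ⟨s₁', e₁', f₁'⟩ := exists_mul D D' q c fT hq hfTα hfTav hga'
  obtain ⟨s₂', e₂', f₂'⟩ := exists_mul D D' q c fT hq hfTα hfTav hgb'
  have hg : g = (b ≫ cell D) * (a ≫ cell D)⁻¹ := by rw [← h, mul_inv_cancel_right]
  have hg' : b' ≫ cell D = g * (a' ≫ cell D) := h'.symm
  simp only [Category.assoc] at e₁ e₂ e₁' e₂' f₁ f₂ f₁' f₂'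
  obtain rfl : s₁' = s₁ := (cancel_mono (cell D)).1 (by
    rw [e₁', e₁, hr', hr]
    simp only [MonObj.comp_mul, GrpObj.comp_inv]
    group)
  obtain rfl : s₂' = s₂ := (cancel_mono (cell D)).1 (by
    rw [e₂', e₂, hr', hr, hg', hg]
    simp only [MonObj.comp_mul, GrpObj.comp_inv]
    group)
  have := epi_of_smooth π hs hp
  rw [← cancel_epi π]
  simp only [MonObj.comp_mul, GrpObj.comp_inv]
  rw [eq_mul_inv_of_mul_eq f₁.symm, eq_mul_inv_of_mul_eq f₂.symm, eq_mul_inv_of_mul_eq f₁'.symm,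
    eq_mul_inv_of_mul_eq f₂'.symm]
  group

include hq hfTα hfTav in
/-- The extension as a morphism. -/
lemma exists_ext (hc : ConnFibres G) :
    ∃ F : G ⟶ G', ∀ {X : Over S} (g : X ⟶ G) (a b : X ⟶ C T), g * (a ≫ cell D) = b ≫ cell D →
      g ≫ F = (b ≫ phi D' q c fT) * (a ≫ phi D' q c fT)⁻¹ := by
  obtain ⟨W, π, a, b, hs, hp, hab⟩ := exists_translate hc (cell D) cellOne (cellOne_cell D) (𝟙 G)
  rw [Category.comp_id] at hab
  set F₀ := (b ≫ phi D' q c fT) * (a ≫ phi D' q c fT)⁻¹ with hF₀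
  have hdesc : ∀ {Z : Scheme.{u}} (p₁ p₂ : Z ⟶ W.left), p₁ ≫ π.left = p₂ ≫ π.left →
      p₁ ≫ F₀.left = p₂ ≫ F₀.left := by
    intro Z p₁ p₂ h
    have hw : p₂ ≫ W.hom = p₁ ≫ W.hom := by rw [← Over.w π, ← reassoc_of% h, Over.w]
    let Zo : Over S := Over.mk (p₁ ≫ W.hom)
    let q₁ : Zo ⟶ W := Over.homMk p₁ rfl
    let q₂ : Zo ⟶ W := Over.homMk p₂ hw
    have hqq : q₁ ≫ π = q₂ ≫ π := Over.OverMorphism.ext h
    have e₂ := congrArg (q₂ ≫ ·) hab
    have e₁ := congrArg (q₁ ≫ ·) hab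
    simp only [MonObj.comp_mul] at e₁ e₂
    rw [← hqq] at e₂
    have := key D D' q c fT hq hfTα hfTav hc (q₁ ≫ π) (q₁ ≫ a) (q₁ ≫ b) (q₂ ≫ a) (q₂ ≫ b)
      (by rw [Category.assoc, Category.assoc, e₁]) (by rw [Category.assoc, Category.assoc, e₂])
    have e : q₁ ≫ F₀ = q₂ ≫ F₀ := by
      simpa only [hF₀, MonObj.comp_mul, GrpObj.comp_inv, Category.assoc] using this
    exact congrArg (fun m => m.left) e
  have : EffectiveEpi π.left := inferInstance
  have hfac : π.left ≫ EffectiveEpi.desc π.left F₀.left hdesc = F₀.left := EffectiveEpi.fac _ _ _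
  let F : G ⟶ G' := Over.homMk (EffectiveEpi.desc π.left F₀.left hdesc) (by
    rw [← cancel_epi π.left, ← Category.assoc, hfac, Over.w, Over.w])
  have hF : π ≫ F = F₀ := Over.OverMorphism.ext hfac
  refine ⟨F, fun {X} g a₀ b₀ h => ?_⟩
  let P := pullback g.left π.left
  let Po : Over S := Over.mk (pullback.fst g.left π.left ≫ X.hom)
  let p : Po ⟶ X := Over.homMk (pullback.fst g.left π.left) rfl
  let r : Po ⟶ W := Over.homMk (pullback.snd g.left π.left) (by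
    rw [← Over.w π, ← pullback.condition_assoc, Over.w g]; rfl)
  have hpr : p ≫ g = r ≫ π := Over.OverMorphism.ext pullback.condition
  have := epi_of_smooth p (inferInstanceAs (Smooth (pullback.fst g.left π.left)))
    (inferInstanceAs (Surjective (pullback.fst g.left π.left)))
  rw [← cancel_epi p, ← Category.assoc, hpr, Category.assoc, hF, hF₀]
  simp only [MonObj.comp_mul, GrpObj.comp_inv, ← Category.assoc]
  refine key D D' q c fT hq hfTα hfTav hc (p ≫ g) (r ≫ a) (r ≫ b) (p ≫ a₀) (p ≫ b₀) ?_ ?_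
  · have e := congrArg (r ≫ ·) hab
    simp only [MonObj.comp_mul] at e
    rw [hpr, Category.assoc, Category.assoc, e]
  · have e := congrArg (p ≫ ·) h
    simp only [MonObj.comp_mul] at e
    rw [Category.assoc, Category.assoc, e]

include hq0 hq hfTα hfTav in
/-- The extension is a homomorphism extending the map on the cell. -/
theorem exists_hom (hc : ConnFibres G) :
    ∃ F : G ⟶ G', IsMonHom F ∧ cell D ≫ F = phi D' q c fT ∧
      ∀ F' : G ⟶ G', IsMonHom F' → cell D ≫ F' = phi D' q c fT → F' = F := by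
  obtain ⟨F, hF⟩ := exists_ext D D' q c fT hq hfTα hfTav hc
  have hcell : ∀ {X : Over S} (w : X ⟶ C T), (w ≫ cell D) ≫ F = w ≫ phi D' q c fT := by
    intro X w
    rw [hF (w ≫ cell D) (one X) w (by rw [one_cell, _root_.mul_one]), one_phi D' q c fT hq0, inv_one,
      _root_.mul_one]
  have step : ∀ {X : Over S} (g : X ⟶ G) (w : X ⟶ C T),
      (g * (w ≫ cell D)) ≫ F = (g ≫ F) * (w ≫ phi D' q c fT) := by
    intro X g w
    have s := surjective_inf hc X _ _ (goodOpen_surj D w)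
      (transl_surj (g * (w ≫ cell D)) _ (goodOpen_surj D (one X)))
    obtain ⟨W, v, hv, hs, hp⟩ := exists_cover _ s
    obtain ⟨r, hr, hgood⟩ := exists_good D w v fun x => (hv x).1
    obtain ⟨r', hr', -⟩ := exists_good D (one X) (v ≫ (transl G (g * (w ≫ cell D))).hom) fun x => (hv x).2
    set π := v ≫ fst X G with hπ
    rw [← Category.assoc, ← hπ] at hgood
    obtain ⟨s₁, e₁, f₁⟩ := exists_mul D D' q c fT hq hfTα hfTav hgood
    have hr'' : r' ≫ cell D = π ≫ (g * (w ≫ cell D)) * (r ≫ cell D) := by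
      rw [hr', hr]; simp [transl, hπ, MonObj.comp_mul]
    have := epi_of_smooth π hs hp
    rw [← cancel_epi π, MonObj.comp_mul, ← Category.assoc π (g * _) F, hF (π ≫ (g * (w ≫ cell D))) r r' hr''.symm,
      ← Category.assoc π g F, hF (π ≫ g) s₁ r' (by
        rw [e₁, hr'', MonObj.comp_mul, Category.assoc π w (cell D), _root_.mul_assoc]), f₁,
      Category.assoc π w (phi D' q c fT)]
    group
  have hmul : ∀ {X : Over S} (g h : X ⟶ G), (g * h) ≫ F = (g ≫ F) * (h ≫ F) := by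
    intro X g h
    obtain ⟨W, π, a, b, hs, hp, hab⟩ := exists_translate hc (cell D) cellOne (cellOne_cell D) h
    have := epi_of_smooth π hs hp
    rw [← cancel_epi π, MonObj.comp_mul, ← Category.assoc, ← Category.assoc, ← Category.assoc,
      MonObj.comp_mul]
    have e1 := step ((π ≫ g) * (π ≫ h)) a
    rw [_root_.mul_assoc, hab, step] at e1
    rw [hF (π ≫ h) a b hab, ← _root_.mul_assoc, e1, mul_inv_cancel_right]
  have hone : η[G] ≫ F = η[G'] := by
    have h := hmul (1 : 𝟙_ (Over S) ⟶ G) 1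
    rw [_root_.mul_one] at h
    have h' : (1 : 𝟙_ (Over S) ⟶ G) ≫ F = 1 := left_eq_mul.mp h
    simpa [Hom.one_def, toUnit_unique (toUnit (𝟙_ (Over S))) (𝟙 _)] using h'
  refine ⟨F, ⟨hone, ?_⟩, ?_, fun F' hF' hc' => ?_⟩
  · have h := hmul (fst G G) (snd G G)
    rw [Hom.mul_def, Hom.mul_def, lift_fst_snd, Category.id_comp] at h
    rw [h]
    congr 1
  · simpa only [Category.id_comp] using hcell (𝟙 (C T))
  · obtain ⟨W, π, a, b, hs, hp, hab⟩ := exists_translate hc (cell D) cellOne (cellOne_cell D) (𝟙 G)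
    have := epi_of_smooth π hs hp
    rw [Category.comp_id] at hab
    rw [← cancel_epi π, hF π a b hab, ← hc', ← Category.assoc b (cell D) F', ← Category.assoc a (cell D) F',
      ← hab]
    haveI := hF'
    rw [MonObj.mul_comp, mul_inv_cancel_right]

end Opens

end Groth.Agent.CellHom
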