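import Groth.Agent.CellHom.Basic
import Groth.Agent.S8478

/-!
# Homomorphisms of rank one systems on the big cell
-/

set_option autoImplicit false
universe u

open CategoryTheory MonoidalCategory CartesianMonoidalCategory MonObj GrpObj AlgebraicGeometry Limits
open Groth.Agent.RedPts Groth.Agent.Cor85

noncomputable section

namespace Groth.Agent.CellHom

attribute [local instance] Sys.hi Sys.hα Sys.hav Sys.hp Sys.hm

variable {S : Scheme.{u}}

/-- The constant unit. -/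
abbrev cu (c : 𝟙_ (Over S) ⟶ Red.Gm S) (X : Over S) : (Γ(X.left, ⊤))ˣ := gmU (toUnit X ≫ c)

/-- Scaling of 𝔾_a by a function. -/
def scaleP (c : 𝟙_ (Over S) ⟶ Red.Gm S) : Red.Ga S ⟶ Red.Ga S :=
  gaPt ((cu c (Red.Ga S) : Γ((Red.Ga S).left, ⊤)) * Red.gaFn (𝟙 (Red.Ga S)))

/-- Scaling of 𝔾_a by the inverse function. -/
def scaleM (c : 𝟙_ (Over S) ⟶ Red.Gm S) : Red.Ga S ⟶ Red.Ga S :=
  gaPt ((↑(cu c (Red.Ga S))⁻¹ : Γ((Red.Ga S).left, ⊤)) * Red.gaFn (𝟙 (Red.Ga S)))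

lemma gaFn_scaleP (c : 𝟙_ (Over S) ⟶ Red.Gm S) {X : Over S} (x : X ⟶ Red.Ga S) :
    Red.gaFn (x ≫ scaleP c) = (cu c X : Γ(X.left, ⊤)) * Red.gaFn x := by
  rw [scaleP, ga_comp, gaFn_gaPt, map_mul, gmU_val, ← gm_comp, ← ga_comp, Category.comp_id,
    ← Category.assoc, toUnit_unique (x ≫ toUnit _) (toUnit X)]
  rfl

lemma gaFn_scaleM (c : 𝟙_ (Over S) ⟶ Red.Gm S) {X : Over S} (x : X ⟶ Red.Ga S) :
    Red.gaFn (x ≫ scaleM c) * (cu c X : Γ(X.left, ⊤)) = Red.gaFn x := by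
  have e : (cu c X : Γ(X.left, ⊤)) = x.left.appTop (cu c (Red.Ga S) : Γ((Red.Ga S).left, ⊤)) := by
    rw [gmU_val, gmU_val, ← gm_comp, ← Category.assoc, toUnit_unique (x ≫ toUnit _) (toUnit X)]
  rw [scaleM, ga_comp, gaFn_gaPt, e, ← map_mul, mul_right_comm, Units.inv_mul, _root_.one_mul, ← ga_comp,
    Category.comp_id]

instance (c : 𝟙_ (Over S) ⟶ Red.Gm S) : IsIso (scaleP c) := by
  refine ⟨scaleM c, ga_injective ?_, ga_injective ?_⟩
  · apply (cu c (Red.Ga S)).isUnit.mul_right_cancel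
    rw [gaFn_scaleM, ← Category.id_comp (scaleP c), gaFn_scaleP, mul_comm]
  · rw [gaFn_scaleP, mul_comm, ← Category.id_comp (scaleM c), gaFn_scaleM]

instance (c : 𝟙_ (Over S) ⟶ Red.Gm S) : IsIso (scaleM c) := by
  refine ⟨scaleP c, ga_injective ?_, ga_injective ?_⟩
  · rw [gaFn_scaleP, mul_comm, ← Category.id_comp (scaleM c), gaFn_scaleM]
  · apply (cu c (Red.Ga S)).isUnit.mul_right_cancel
    rw [gaFn_scaleM, ← Category.id_comp (scaleP c), gaFn_scaleP, mul_comm]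

variable {G T G' T' : Over S} [GrpObj G] [GrpObj T] [GrpObj G'] [GrpObj T']

/-- The unit point of the cell. -/
def cellOne : 𝟙_ (Over S) ⟶ (Red.Ga S ⊗ T) ⊗ Red.Ga S := lift (lift 1 1) 1

lemma cellOne_cell (D : Sys S G T) : cellOne ≫ cell D = 1 := by
  rw [cellOne, lift_cell, MonObj.one_comp, MonObj.one_comp, MonObj.one_comp, _root_.one_mul, _root_.one_mul]

/-- The map of cells. -/
def cellMap (c : 𝟙_ (Over S) ⟶ Red.Gm S) (fT : T ⟶ T') :
    (Red.Ga S ⊗ T) ⊗ Red.Ga S ⟶ (Red.Ga S ⊗ T') ⊗ Red.Ga S :=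
  (scaleM c ⊗ₘ fT) ⊗ₘ scaleP c

lemma cell_comp (D : Sys S G T) (D' : Sys S G' T') (c : 𝟙_ (Over S) ⟶ Red.Gm S) (fT : T ⟶ T')
    (f : G ⟶ G') [IsMonHom f] (hfT : D.i ≫ f = fT ≫ D'.i) (hp : D.pp ≫ f = scaleP c ≫ D'.pp)
    (hm : D.pm ≫ f = scaleM c ≫ D'.pm) : cell D ≫ f = cellMap c fT ≫ cell D' := by
  have e : 𝟙 ((Red.Ga S ⊗ T) ⊗ Red.Ga S) = lift (lift (fst _ _ ≫ fst _ _) (fst _ _ ≫ snd _ _)) (snd _ _) := by
    ext <;> simp
  rw [← Category.id_comp (cell D), e, lift_cell, MonObj.mul_comp, MonObj.mul_comp,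
    ← Category.id_comp (cellMap c fT), e, cellMap, Category.assoc, lift_map, lift_map, lift_cell]
  simp only [Category.assoc, hfT, hp, hm]

/-- Properties of the map of cells. -/
lemma cellMap_left (P : MorphismProperty Scheme.{u}) [P.IsStableUnderBaseChange] [P.IsMultiplicative]
    (c : 𝟙_ (Over S) ⟶ Red.Gm S) (fT : T ⟶ T') (h : P fT.left) :
    P (cellMap c fT).left := by
  have e : cellMap c fT = ((scaleM c ▷ T) ▷ Red.Ga S) ≫ ((Red.Ga S ◁ fT) ▷ Red.Ga S) ≫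
      ((Red.Ga S ⊗ T') ◁ scaleP c) := by
    rw [cellMap, MonoidalCategory.tensorHom_def, MonoidalCategory.tensorHom_def, comp_whiskerRight,
      Category.assoc]
  have hi : ∀ {A B : Over S} (g : A ⟶ B) [IsIso g], P g.left := fun g _ =>
    MorphismProperty.of_isIso P ((Over.forget S).map g)
  have hr : P ((Red.Ga S ◁ fT) ▷ Red.Ga S).left := by
    have e2 : (Red.Ga S ◁ fT) ▷ Red.Ga S =
        (β_ _ _).hom ≫ (Red.Ga S ◁ (Red.Ga S ◁ fT)) ≫ (β_ _ _).inv := by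
      rw [← Category.assoc, ← BraidedCategory.braiding_naturality_left, Category.assoc, Iso.hom_inv_id,
        Category.comp_id]
    rw [e2, Over.comp_left, Over.comp_left]
    exact P.comp_mem _ _ (hi _) (P.comp_mem _ _ (whiskerLeft_left P _ _ (whiskerLeft_left P _ _ h)) (hi _))
  rw [e, Over.comp_left, Over.comp_left]
  exact P.comp_mem _ _ (hi _) (P.comp_mem _ _ hr (hi _))

/-- The kernel is contained in the torus. -/
theorem isKernel_cell [Smooth G.hom] (D : Sys S G T) (D' : Sys S G' T') [Mono D.i]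
    [IsOpenImmersion (cell D).left] [IsOpenImmersion (cell D').left]
    (c : 𝟙_ (Over S) ⟶ Red.Gm S) (fT : T ⟶ T') [IsMonHom fT] (f : G ⟶ G') [IsMonHom f]
    (hfT : D.i ≫ f = fT ≫ D'.i) (hcell : cell D ≫ f = cellMap c fT ≫ cell D') (hc : ConnFibres G)
    {Q : Over S} (k : Q ⟶ T) (hk : AlgGrp.IsKernel k fT) (hfTα : fT ≫ D'.α = D.α) :
    AlgGrp.IsKernel (k ≫ D.i) f := by
  have : Mono η[T'] := (IsSplitMono.mk' ⟨toUnit T', toUnit_unique _ _⟩).mono
  have : Mono k := hk.mono_fst_of_mono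
  have w : (k ≫ D.i) ≫ f = toUnit Q ≫ η[G'] := by
    rw [Category.assoc, hfT, ← Category.assoc, hk.w, Category.assoc, IsMonHom.one_hom]
  have hlift : ∀ {X : Over S} (g : X ⟶ G), g ≫ f = 1 → ∃ l : X ⟶ Q, l ≫ k ≫ D.i = g := by
    intro X g hg
    obtain ⟨W, π, a, b, hs, hp, hab⟩ := exists_translate hc (cell D) cellOne (cellOne_cell D) g
    suffices h : ∃ l : W ⟶ Q, l ≫ k ≫ D.i = π ≫ g by
      obtain ⟨l, hl⟩ := h
      exact exists_lift_of_cover (k ≫ D.i) g π hs hp l hl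
    have e : a ≫ cellMap c fT = b ≫ cellMap c fT := by
      have : Mono (cell D') := Over.mono_of_mono_left _
      have h' : (b ≫ cell D) ≫ f = (a ≫ cell D) ≫ f := by
        rw [← hab, MonObj.mul_comp, Category.assoc π, hg, MonObj.comp_one, _root_.one_mul]
      rw [Category.assoc b (cell D) f, Category.assoc a (cell D) f, hcell] at h'
      rw [← cancel_mono (cell D'), Category.assoc a (cellMap c fT) (cell D'),
        Category.assoc b (cellMap c fT) (cell D')]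
      exact h'.symm
    have ey : a ≫ fst _ _ ≫ fst _ _ = b ≫ fst _ _ ≫ fst _ _ := by
      have := e =≫ (fst _ _ ≫ fst _ _)
      simp only [cellMap, Category.assoc, tensorHom_fst_assoc, tensorHom_fst] at this
      simpa only [← Category.assoc, cancel_mono] using this
    have ex : a ≫ snd _ _ = b ≫ snd _ _ := by
      have := e =≫ snd _ _
      simp only [cellMap, Category.assoc, tensorHom_snd] at this
      simpa only [← Category.assoc, cancel_mono] using this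
    have et : (a ≫ fst _ _ ≫ snd _ _) ≫ fT = (b ≫ fst _ _ ≫ snd _ _) ≫ fT := by
      have := e =≫ (fst _ _ ≫ snd _ _)
      simpa only [cellMap, Category.assoc, tensorHom_fst_assoc, tensorHom_snd] using this
    set τ := (b ≫ fst _ _ ≫ snd _ _) * (a ≫ fst _ _ ≫ snd _ _)⁻¹ with hτ
    have hτ1 : τ ≫ fT = 1 := by rw [hτ, MonObj.mul_comp, GrpObj.inv_comp, et, mul_inv_cancel]
    obtain ⟨l, hl, -⟩ := hk.exists_lift τ (toUnit W) (by rw [hτ1, Hom.one_def])
    refine ⟨l, ?_⟩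
    rw [← Category.assoc, hl]
    have hg' : π ≫ g = (b ≫ cell D) * (a ≫ cell D)⁻¹ := by rw [← hab, mul_inv_cancel_right]
    have ec : ∀ a : W ⟶ (Red.Ga S ⊗ T) ⊗ Red.Ga S, a ≫ cell D = (a ≫ fst _ _ ≫ fst _ _) ≫ D.pm *
        ((a ≫ fst _ _ ≫ snd _ _) ≫ D.i) * ((a ≫ snd _ _) ≫ D.pp) := fun a => by
      rw [← lift_cell]
      congr 1
      ext <;> simp
    rw [hg', ec, ec, ← ex, ← ey, hτ, MonObj.mul_comp, GrpObj.inv_comp]
    obtain ⟨y', hy', hyf⟩ := D.hpm W τ (a ≫ fst _ _ ≫ fst _ _)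
    have hα1 : (D.rk W).χ τ = 1 := by
      have e2 : (D.rk W).χ (b ≫ fst _ _ ≫ snd _ _) = (D.rk W).χ (a ≫ fst _ _ ≫ snd _ _) :=
        Units.ext (by rw [D.χ_val, D.χ_val, ← hfTα, ← Category.assoc, ← et, Category.assoc])
      rw [hτ, map_mul, map_inv, e2, mul_inv_cancel]
    rw [← D.χ_val, hα1, Units.val_one, _root_.mul_one] at hyf
    rw [ga_injective hyf, hτ, MonObj.mul_comp, GrpObj.inv_comp] at hy'
    generalize (a ≫ fst _ _ ≫ fst _ _) ≫ D.pm = M at hy' ⊢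
    generalize (a ≫ snd _ _) ≫ D.pp = P
    generalize (a ≫ fst _ _ ≫ snd _ _) ≫ D.i = A at hy' ⊢
    generalize (b ≫ fst _ _ ≫ snd _ _) ≫ D.i = B at hy' ⊢
    have hcomm : M * (B * A⁻¹) = (B * A⁻¹) * M := by
      conv_lhs => rw [hy']
      group
    calc B * A⁻¹ = (B * A⁻¹) * M * M⁻¹ := by group
      _ = M * (B * A⁻¹) * M⁻¹ := by rw [hcomm]
      _ = _ := by group
  refine IsPullback.of_isLimit' ⟨w⟩ (PullbackCone.IsLimit.mk w
    (fun s => (hlift s.fst (by rw [s.condition, Hom.one_def, toUnit_unique s.snd (toUnit _)])).choose) ?_ ?_ ?_)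
  · exact fun s => (hlift s.fst (by rw [s.condition, Hom.one_def, toUnit_unique s.snd (toUnit _)])).choose_spec
  · exact fun s => toUnit_unique _ _
  · intro s m hm _
    have h1 : s.fst ≫ f = 1 := by rw [s.condition, Hom.one_def, toUnit_unique s.snd (toUnit _)]
    rw [← cancel_mono (k ≫ D.i), hm, (hlift s.fst h1).choose_spec]

end Groth.Agent.CellHom
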