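import Mathlib.Tactic
import Mathlib.Algebra.Group.Commute.Defs

/-!
# Deriving the rank one commutation rule from the Weyl relations
-/

set_option autoImplicit false

namespace Groth.Agent.CellHom

/-- The generators and relations of a rank one system on points. -/
structure Rel (R G T : Type*) [CommRing R] [Group G] [Group T] where
  it : T →* G
  χ : T →* Rˣ
  av : Rˣ →* T
  χav : ∀ z, χ (av z) = z ^ 2
  P : R → G
  P_add : ∀ a b, P (a + b) = P a * P b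
  conjP : ∀ t x, it t * P x * (it t)⁻¹ = P (χ t * x)
  n : G
  conjn : ∀ t, n * it t * n⁻¹ = it (t * (av (χ t))⁻¹)
  sq : n * n = it (av (-1))
  cube : (n * P 1) ^ 3 = 1

namespace Rel

variable {R G T : Type*} [CommRing R] [Group G] [Group T] (D : Rel R G T)

/-- The opposite root group. -/
def M (y : R) : G := D.n * D.P (-y) * D.n⁻¹

/-- The Weyl element. -/
def W (x : Rˣ) : G := D.P x * D.M (-↑x⁻¹) * D.P x

lemma P_zero : D.P 0 = 1 := mul_eq_left.mp ((D.P_add 0 0).symm.trans (by rw [add_zero]))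

lemma P_neg (a : R) : D.P (-a) = (D.P a)⁻¹ :=
  eq_inv_of_mul_eq_one_left (by rw [← D.P_add, neg_add_cancel, D.P_zero])

lemma M_add (a b : R) : D.M (a + b) = D.M a * D.M b := by
  rw [M, M, M, neg_add, D.P_add]; group

lemma it_P (t : T) (x : R) : D.it t * D.P x = D.P (D.χ t * x) * D.it t := by
  rw [← D.conjP]; group

lemma it_n (t : T) : D.it t * D.n = D.n * D.it (t * (D.av (D.χ t))⁻¹) := by
  have h := D.conjn (t * (D.av (D.χ t))⁻¹)
  have e : D.χ (t * (D.av (D.χ t))⁻¹) = (D.χ t)⁻¹ := by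
    rw [map_mul, map_inv, D.χav, pow_two, mul_inv, ← mul_assoc, mul_inv_cancel, one_mul]
  rw [e, map_inv D.av, inv_inv, inv_mul_cancel_right] at h
  conv_lhs => rw [← h]
  group

lemma conjM (t : T) (y : R) : D.it t * D.M y * (D.it t)⁻¹ = D.M (↑(D.χ t)⁻¹ * y) := by
  have e : D.χ (t * (D.av (D.χ t))⁻¹) = (D.χ t)⁻¹ := by
    rw [map_mul, map_inv, D.χav, pow_two, mul_inv, ← mul_assoc, mul_inv_cancel, one_mul]
  calc D.it t * D.M y * (D.it t)⁻¹ = (D.it t * D.n) * D.P (-y) * (D.it t * D.n)⁻¹ := by rw [M]; group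
    _ = D.n * (D.it (t * (D.av (D.χ t))⁻¹) * D.P (-y) * (D.it (t * (D.av (D.χ t))⁻¹))⁻¹) * D.n⁻¹ := by
        rw [D.it_n]; group
    _ = _ := by rw [D.conjP, e, M, mul_neg]

lemma W_one : D.W 1 = D.n := by
  have hc : D.it (D.av (-1)) * D.it (D.av (-1)) = 1 := by
    rw [← map_mul, ← map_mul, neg_mul_neg, one_mul, map_one, map_one]
  have hP : D.it (D.av (-1)) * D.P 1 = D.P 1 * D.it (D.av (-1)) := by
    rw [D.it_P, D.χav, neg_one_sq, Units.val_one, one_mul]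
  have h := D.cube
  rw [pow_succ', pow_two] at h
  have hn : D.n⁻¹ = D.it (D.av (-1)) * D.n := by
    rw [← D.sq]
    apply inv_eq_of_mul_eq_one_right
    calc D.n * (D.n * D.n * D.n) = (D.n * D.n) * (D.n * D.n) := by group
      _ = 1 := by rw [D.sq, hc]
  have key : D.P 1 * D.n * D.P 1 = D.n * (D.P 1)⁻¹ * D.n := by
    have h' : D.P 1 * D.n * D.P 1 = D.n⁻¹ * (D.P 1)⁻¹ * D.n⁻¹ := by
      calc D.P 1 * D.n * D.P 1 =
          D.n⁻¹ * (D.n * D.P 1 * (D.n * D.P 1 * (D.n * D.P 1))) * (D.P 1)⁻¹ * D.n⁻¹ := by group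
        _ = _ := by rw [h]; group
    rw [h', hn]
    calc D.it (D.av (-1)) * D.n * (D.P 1)⁻¹ * (D.it (D.av (-1)) * D.n)
        = D.it (D.av (-1)) * D.n * ((D.P 1)⁻¹ * D.it (D.av (-1))) * D.n := by group
      _ = D.it (D.av (-1)) * (D.n * D.it (D.av (-1))) * (D.P 1)⁻¹ * D.n := by
          rw [show (D.P 1)⁻¹ * D.it (D.av (-1)) = D.it (D.av (-1)) * (D.P 1)⁻¹ by
            rw [inv_mul_eq_iff_eq_mul, ← mul_assoc, ← hP]; group]
          group
      _ = (D.it (D.av (-1)) * D.it (D.av (-1))) * D.n * (D.P 1)⁻¹ * D.n := by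
          rw [show D.n * D.it (D.av (-1)) = D.it (D.av (-1)) * D.n by rw [← D.sq]; group]
          group
      _ = _ := by rw [hc]; group
  rw [W, M, inv_one, Units.val_one, neg_neg]
  calc D.P 1 * (D.n * D.P 1 * D.n⁻¹) * D.P 1 = (D.P 1 * D.n * D.P 1) * D.n⁻¹ * D.P 1 := by group
    _ = D.n := by rw [key]; group

/-- The Weyl element at a square. -/
lemma W_sq (z : Rˣ) : D.W (z * z) = D.it (D.av (z * z)) * D.n := by
  have e1 : D.it (D.av z) * D.W 1 * (D.it (D.av z))⁻¹ = D.W (z * z) := by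
    have : D.it (D.av z) * D.W 1 * (D.it (D.av z))⁻¹ = (D.it (D.av z) * D.P 1 * (D.it (D.av z))⁻¹) *
        (D.it (D.av z) * D.M (-1) * (D.it (D.av z))⁻¹) * (D.it (D.av z) * D.P 1 * (D.it (D.av z))⁻¹) := by
      rw [W, inv_one, Units.val_one]; group
    rw [this, D.conjP, D.conjM, D.χav, W, pow_two, mul_one, mul_neg, mul_one]
  rw [← e1, W_one, mul_assoc]
  have h := D.conjn (D.av z)
  rw [D.χav] at h
  have h2 : D.n * (D.it (D.av z))⁻¹ = D.it (D.av z) * D.n := by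
    have h3 : D.n * D.it (D.av z) * D.n⁻¹ = (D.it (D.av z))⁻¹ := by
      rw [h, ← map_inv D.it, ← map_inv D.av, ← map_inv D.av, ← map_mul D.av]
      congr 2
      rw [pow_two, mul_inv, ← mul_assoc, mul_inv_cancel, one_mul]
    calc D.n * (D.it (D.av z))⁻¹ = (D.n * D.it (D.av z) * D.n⁻¹)⁻¹ * D.n := by group
      _ = _ := by rw [h3, inv_inv]
  rw [h2, map_mul, map_mul, mul_assoc]

/-- The rule when the first argument is a unit. -/
lemma rule_unit (hW : ∀ a, D.W a = D.it (D.av a) * D.n) (x u : Rˣ) (y : R) (hu : (u : R) = 1 + x * y) :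
    D.P x * D.M y = D.M (↑u⁻¹ * y) * D.it (D.av u) * D.P (↑u⁻¹ * x) := by
  let b : Rˣ := -(x * u⁻¹)
  have hy : y = -↑x⁻¹ + -(↑b⁻¹ : R) := by
    have : (↑b⁻¹ : R) = -(↑x⁻¹ * (u : R)) := by simp [b, mul_comm]
    rw [this, hu, mul_add, mul_one, Units.inv_mul_cancel_left]; ring
  have h1 : D.P x * D.M (-↑x⁻¹) = D.W x * D.P (-(x : R)) := by rw [W, D.P_neg]; group
  have h2 : D.M (-↑b⁻¹) = D.P (-(b : R)) * D.W b * D.P (-(b : R)) := by rw [W, D.P_neg]; group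
  have h3 : ∀ z, D.W x * D.P z = D.M (↑x⁻¹ * ↑x⁻¹ * -z) * D.W x := by
    intro z
    rw [hW]
    calc D.it (D.av x) * D.n * D.P z = (D.it (D.av x) * D.M (-z) * (D.it (D.av x))⁻¹) *
        (D.it (D.av x) * D.n) := by rw [M, neg_neg]; group
      _ = _ := by rw [D.conjM, D.χav, pow_two, mul_inv, Units.val_mul]
  have h4 : D.W x * D.W b = D.it (D.av u) := by
    rw [hW, hW]
    have hb : D.n * D.it (D.av b) = D.it (D.av b⁻¹) * D.n := by
      have h := D.conjn (D.av b)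
      rw [D.χav, ← map_inv, ← map_mul, show b * (b ^ 2)⁻¹ = b⁻¹ by rw [pow_two, mul_inv, ← mul_assoc, mul_inv_cancel, one_mul]] at h
      rw [← h]; group
    calc D.it (D.av x) * D.n * (D.it (D.av b) * D.n) = D.it (D.av x) * (D.n * D.it (D.av b)) * D.n := by group
      _ = D.it (D.av x) * D.it (D.av b⁻¹) * (D.n * D.n) := by rw [hb]; group
      _ = _ := by
        rw [D.sq, ← map_mul, ← map_mul, ← map_mul, ← map_mul]
        congr 2
        simp [b]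
  have e : (↑x⁻¹ : R) * ↑x⁻¹ * -(-(x : R) + -(b : R)) = ↑u⁻¹ * y := by
    apply u.isUnit.mul_left_cancel
    rw [Units.mul_inv_cancel_left]
    simp only [b, Units.val_neg, Units.val_mul]
    linear_combination (↑x⁻¹ * ↑x⁻¹ * (x : R)) * hu + ((x:R) * ↑x⁻¹ * y + y) * x.mul_inv -
      (↑x⁻¹ * ↑x⁻¹ * (x : R)) * u.mul_inv
  calc D.P x * D.M y = (D.P x * D.M (-↑x⁻¹)) * D.M (-↑b⁻¹) := by rw [hy, D.M_add]; group
    _ = D.W x * (D.P (-(x : R)) * D.P (-(b : R))) * D.W b * D.P (-(b : R)) := by rw [h1, h2]; group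
    _ = D.M (↑u⁻¹ * y) * D.it (D.av u) * D.P (-(b : R)) := by rw [← D.P_add, h3, e, ← h4]; group
    _ = _ := by
      congr 2
      simp [b, mul_comm]

/-- The rule, once the first argument is split into two units. -/
lemma rule_split (hW : ∀ a, D.W a = D.it (D.av a) * D.n) (x y : R) (u x₁ x₂ u₂ : Rˣ)
    (hu : (u : R) = 1 + x * y) (hx : (x₁ : R) + x₂ = x) (hu₂ : (u₂ : R) = 1 + x₂ * y) :
    D.P x * D.M y = D.M (↑u⁻¹ * y) * D.it (D.av u) * D.P (↑u⁻¹ * x) := by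
  let u₁ : Rˣ := u * u₂⁻¹
  have hu₁ : (u₁ : R) = 1 + x₁ * (↑u₂⁻¹ * y) := by
    apply u₂.isUnit.mul_left_cancel
    simp only [u₁, Units.val_mul]
    linear_combination hu - hu₂ - y * hx + (u - x₁ * y) * u₂.mul_inv
  have e := D.rule_unit hW x₁ u₁ (↑u₂⁻¹ * y) hu₁
  have hPit : D.P (↑u₁⁻¹ * x₁) * D.it (D.av u₂) =
      D.it (D.av u₂) * D.P (↑u₂⁻¹ * ↑u₂⁻¹ * (↑u₁⁻¹ * x₁)) := by
    rw [D.it_P, D.χav, pow_two, Units.val_mul]
    congr 2
    linear_combination (-(↑u₁⁻¹ * (x₁ : R)) * ((u₂ : R) * ↑u₂⁻¹ + 1)) * u₂.mul_inv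
  have hy' : (↑u₁⁻¹ : R) * (↑u₂⁻¹ * y) = ↑u⁻¹ * y := by
    rw [← mul_assoc, ← Units.val_mul]; congr 2; simp [u₁]
  have ha : D.it (D.av u₁) * D.it (D.av u₂) = D.it (D.av u) := by
    rw [← map_mul, ← map_mul]; simp [u₁]
  calc D.P x * D.M y = D.P x₁ * (D.P x₂ * D.M y) := by rw [← hx, D.P_add]; group
    _ = (D.P x₁ * D.M (↑u₂⁻¹ * y)) * D.it (D.av u₂) * D.P (↑u₂⁻¹ * x₂) := by
        rw [D.rule_unit hW x₂ u₂ y hu₂]; group
    _ = D.M (↑u⁻¹ * y) * (D.it (D.av u₁) * (D.P (↑u₁⁻¹ * x₁) * D.it (D.av u₂))) * D.P (↑u₂⁻¹ * x₂) := by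
        rw [e, hy']; group
    _ = D.M (↑u⁻¹ * y) * D.it (D.av u) *
        (D.P (↑u₂⁻¹ * ↑u₂⁻¹ * (↑u₁⁻¹ * x₁)) * D.P (↑u₂⁻¹ * x₂)) := by rw [hPit, ← ha]; group
    _ = _ := by
      rw [← D.P_add]
      congr 2
      apply u.isUnit.mul_left_cancel
      apply u₂.isUnit.mul_left_cancel
      rw [Units.mul_inv_cancel_left]
      simp only [u₁, mul_inv_rev, inv_inv, Units.val_mul]
      linear_combination (↑u⁻¹ * (u : R) * x₁ * ((u₂ : R) * ↑u₂⁻¹ + 1) + (u : R) * x₂) * u₂.mul_inv +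
        (x₁ : R) * u.mul_inv + (x₂ : R) * hu + hx - x * hu₂

end Rel

end Groth.Agent.CellHom
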