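import Groth.Agent.CellHom.Extend
import Groth.Agent.CellHom.RelAlg
import Mathlib.AlgebraicGeometry.AffineSpace

/-!
# The rank one system defined by generators and relations in a group scheme
-/

set_option autoImplicit false
universe u

open CategoryTheory MonoidalCategory CartesianMonoidalCategory MonObj GrpObj AlgebraicGeometry Limits
open Groth.Agent.RedPts Groth.Agent.Cor85

noncomputable section

namespace Groth.Agent.CellHom

attribute [local instance] Sys.hi Sys.hα Sys.hav Sys.hp Sys.hm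

variable {S : Scheme.{u}}

set_option backward.isDefEq.respectTransparency.types false in
lemma flat_affineSpace (n : Type u) (X : Scheme.{u}) : Flat (𝔸(n; X) ↘ X) :=
  MorphismProperty.pullback_fst _ _ <| by
    have := isIso_of_isTerminal specULiftZIsTerminal.{u} terminalIsTerminal (terminal.from _)
    rw [← terminal.comp_from (Spec.map (CommRingCat.ofHom MvPolynomial.C)),
      MorphismProperty.cancel_right_of_respectsIso (P := @Flat), HasRingHomProperty.Spec_iff (P := @Flat)]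
    exact RingHom.flat_algebraMap_iff.mpr
      (inferInstance : Module.Flat (ULift.{u} ℤ) (MvPolynomial n (ULift.{u} ℤ)))

/-- A morphism compatible with products of points is a homomorphism. -/
lemma isMonHom_of_mul {A B : Over S} [GrpObj A] [GrpObj B] (f : A ⟶ B)
    (hmul : ∀ {X : Over S} (a b : X ⟶ A), (a * b) ≫ f = (a ≫ f) * (b ≫ f)) : IsMonHom f := by
  refine ⟨?_, ?_⟩
  · have h := hmul (1 : 𝟙_ (Over S) ⟶ A) 1
    rw [_root_.mul_one] at h
    have h' : (1 : 𝟙_ (Over S) ⟶ A) ≫ f = 1 := left_eq_mul.mp h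
    simpa [Hom.one_def, toUnit_unique (toUnit (𝟙_ (Over S))) (𝟙 _)] using h'
  · have h := hmul (fst A A) (snd A A)
    rw [Hom.mul_def, Hom.mul_def, lift_fst_snd, Category.id_comp] at h
    rw [h]
    congr 1

/-- A covering on which a given unit is a square. -/
lemma exists_sqrt (X : Scheme.{u}) (a : (Γ(X, ⊤))ˣ) :
    ∃ (Y : Scheme.{u}) (p : Y ⟶ X) (s : (Γ(Y, ⊤))ˣ), Flat p ∧ Surjective p ∧
      p.appTop (a : Γ(X, ⊤)) = (s : Γ(Y, ⊤)) * s := by
  let R := Γ(X, ⊤)
  let f : Polynomial R := Polynomial.X ^ 2 - Polynomial.C (a : R)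
  have hf : f.Monic := Polynomial.monic_X_pow_sub_C _ two_ne_zero
  let R' := AdjoinRoot f
  have : Module.Free R R' := hf.free_adjoinRoot
  have : Module.Finite R R' := hf.finite_adjoinRoot
  let φ : R →+* R' := AdjoinRoot.of f
  have hflat : Flat (Spec.map (CommRingCat.ofHom φ)) :=
    HasRingHomProperty.Spec_iff.mpr (RingHom.flat_algebraMap_iff.mpr inferInstance : (algebraMap R R').Flat)
  have hsurj : Surjective (Spec.map (CommRingCat.ofHom φ)) := by
    constructor
    rcases subsingleton_or_nontrivial R with h | h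
    · intro a; exact (IsEmpty.false (α := PrimeSpectrum R) a).elim
    · have hd : f.natDegree = 2 := Polynomial.natDegree_X_pow_sub_C
      have : Nontrivial R' := nontrivial_of_ne _ _
        ((AdjoinRoot.powerBasis' hf).basis.ne_zero ⟨0, by rw [AdjoinRoot.powerBasis'_dim, hd]; omega⟩)
      exact fun a => PrimeSpectrum.comap_surjective_of_faithfullyFlat (B := R') a
  let Y := pullback X.toSpecΓ (Spec.map (CommRingCat.ofHom φ))
  let p : Y ⟶ X := pullback.fst _ _
  let g : CommRingCat.of R' ⟶ Γ(Y, ⊤) :=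
    (Scheme.ΓSpecIso (CommRingCat.of R')).inv ≫ (pullback.snd X.toSpecΓ (Spec.map (CommRingCat.ofHom φ))).appTop
  have hg : CommRingCat.ofHom φ ≫ g = p.appTop := by
    have := congrArg Scheme.Hom.appTop (pullback.condition (f := X.toSpecΓ) (g := Spec.map (CommRingCat.ofHom φ)))
    rw [Scheme.Hom.comp_appTop, Scheme.Hom.comp_appTop, Scheme.toSpecΓ_appTop] at this
    rw [← cancel_epi (Scheme.ΓSpecIso R).hom]
    refine Eq.trans ?_ this.symm
    simp [g, Scheme.ΓSpecIso_inv_naturality_assoc]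
    exact Iso.hom_inv_id_assoc (Scheme.ΓSpecIso R) _
  have key : φ (a : R) = AdjoinRoot.root f * AdjoinRoot.root f := by
    have := AdjoinRoot.eval₂_root f
    rw [Polynomial.eval₂_sub, Polynomial.eval₂_X_pow, Polynomial.eval₂_C, sub_eq_zero, pow_two] at this
    exact this.symm
  have hu : IsUnit (g (AdjoinRoot.root f)) :=
    (isUnit_of_mul_isUnit_left (key ▸ a.isUnit.map φ)).map g.hom
  refine ⟨Y, p, hu.unit, inferInstance, inferInstance, ?_⟩
  rw [hu.unit_spec, show p.appTop (a : R) = g (φ (a : R)) from congr($hg.symm (a : R)), key, map_mul]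

variable {G T : Over S} [GrpObj G] [GrpObj T] (D : Sys S G T) {H : Over S} [GrpObj H]

/-- The hypotheses of the presentation. -/
structure RelData (D : Sys S G T) (H : Over S) [GrpObj H] where
  fT : T ⟶ H
  fα : Red.Ga S ⟶ H
  n : 𝟙_ (Over S) ⟶ H
  [hfT : IsMonHom fT]
  [hfα : IsMonHom fα]
  conjP : ∀ (X : Over S) (t : X ⟶ T) (x x' : X ⟶ Red.Ga S), Red.gaFn x' = Red.gmFn (t ≫ D.α) * Red.gaFn x →
    (t ≫ fT) * (x ≫ fα) * (t ≫ fT)⁻¹ = x' ≫ fα
  conjn : ∀ (X : Over S) (t : X ⟶ T),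
    (toUnit X ≫ n) * (t ≫ fT) * (toUnit X ≫ n)⁻¹ = (t * (t ≫ D.α ≫ D.av)⁻¹) ≫ fT
  sq : ∀ (X : Over S), (toUnit X ≫ n) * (toUnit X ≫ n) = ((D.rk X).av (-1)) ≫ fT
  cube : ∀ (X : Over S), ((toUnit X ≫ n) * (gaPt 1 ≫ fα)) ^ 3 = 1

attribute [local instance] RelData.hfT RelData.hfα

variable {D} (E : RelData D H)

/-- The relations on points. -/
def RelData.rel (X : Over S) : Rel Γ(X.left, ⊤) (X ⟶ H) (X ⟶ T) where
  it := MonoidHom.mk' (fun t => t ≫ E.fT) (fun _ _ => MonObj.mul_comp _ _ _)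
  χ := (D.rk X).χ
  av := (D.rk X).av
  χav := (D.rk X).χav
  P a := gaPt a ≫ E.fα
  P_add a b := by rw [gaPt_add, MonObj.mul_comp]
  conjP t x := E.conjP X t (gaPt x) (gaPt _) (by rw [gaFn_gaPt, gaFn_gaPt, ← D.χ_val])
  n := toUnit X ≫ E.n
  conjn t := by
    simp only [MonoidHom.mk'_apply]
    rw [E.conjn X t, ← Category.assoc, D.av_eq]
    rfl
  sq := E.sq X
  cube := E.cube X

lemma RelData.comp_n {X Y : Over S} (p : Y ⟶ X) : p ≫ (E.rel X).n = (E.rel Y).n := by
  show p ≫ toUnit X ≫ E.n = toUnit Y ≫ E.n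
  rw [← Category.assoc, toUnit_unique (p ≫ toUnit X) (toUnit Y)]

lemma RelData.comp_P {X Y : Over S} (p : Y ⟶ X) (a : Γ(X.left, ⊤)) :
    p ≫ (E.rel X).P a = (E.rel Y).P (p.left.appTop a) := by
  show p ≫ gaPt a ≫ E.fα = gaPt _ ≫ E.fα
  rw [← Category.assoc, gaPt_comp]

lemma RelData.comp_M {X Y : Over S} (p : Y ⟶ X) (a : Γ(X.left, ⊤)) :
    p ≫ (E.rel X).M a = (E.rel Y).M (p.left.appTop a) := by
  rw [Rel.M, Rel.M, MonObj.comp_mul, MonObj.comp_mul, GrpObj.comp_inv, E.comp_n, E.comp_P, map_neg]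

lemma RelData.comp_itav {X Y : Over S} (p : Y ⟶ X) (a : (Γ(X.left, ⊤))ˣ) :
    p ≫ (E.rel X).it ((E.rel X).av a) = (E.rel Y).it ((E.rel Y).av (Units.map p.left.appTop.hom.toMonoidHom a)) := by
  show p ≫ (gmPt a ≫ D.av) ≫ E.fT = (gmPt _ ≫ D.av) ≫ E.fT
  have : p ≫ gmPt (S := S) a = gmPt (Units.map p.left.appTop.hom.toMonoidHom a) :=
    gm_injective (by rw [gm_comp, gmFn_gmPt, gmFn_gmPt]; rfl)
  simp only [← Category.assoc, this]

lemma RelData.comp_W {X Y : Over S} (p : Y ⟶ X) (a : (Γ(X.left, ⊤))ˣ) :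
    p ≫ (E.rel X).W a = (E.rel Y).W (Units.map p.left.appTop.hom.toMonoidHom a) := by
  rw [Rel.W, Rel.W, MonObj.comp_mul, MonObj.comp_mul, E.comp_P, E.comp_M, map_neg, ← map_inv]
  rfl

lemma RelData.W_eq_of_cover {X Y : Over S} (p : Y ⟶ X) [Epi p] (a : (Γ(X.left, ⊤))ˣ) (s : (Γ(Y.left, ⊤))ˣ)
    (hs : Units.map p.left.appTop.hom.toMonoidHom a = s * s) :
    (E.rel X).W a = (E.rel X).it ((E.rel X).av a) * (E.rel X).n := by
  rw [← cancel_epi p, MonObj.comp_mul, E.comp_W, E.comp_itav, E.comp_n, hs]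
  exact (E.rel Y).W_sq s

lemma RelData.W_eq (X : Over S) (a : (Γ(X.left, ⊤))ˣ) :
    (E.rel X).W a = (E.rel X).it ((E.rel X).av a) * (E.rel X).n := by
  obtain ⟨Y, p, s, _, _, hs⟩ := exists_sqrt X.left a
  let Yo : Over S := Over.mk (p ≫ X.hom)
  let pY : Yo ⟶ X := Over.homMk p rfl
  have : Epi pY := by
    have : Epi p := Flat.epi_of_flat_of_surjective p
    have : Epi pY.left := this
    exact Over.epi_of_epi_left pY
  exact E.W_eq_of_cover pY a s (Units.ext hs)

lemma RelData.rule (X : Over S) (x y : Γ(X.left, ⊤)) (u : (Γ(X.left, ⊤))ˣ) (hu : (u : Γ(X.left, ⊤)) = 1 + x * y) :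
    (E.rel X).P x * (E.rel X).M y = (E.rel X).M ((↑u⁻¹ : Γ(X.left, ⊤)) * y) * (E.rel X).it ((E.rel X).av u) *
      (E.rel X).P ((↑u⁻¹ : Γ(X.left, ⊤)) * x) := by
  let Q : Over S := Over.mk ((𝔸(PUnit.{u+1}; X.left) ↘ X.left) ≫ X.hom)
  let qf : Q ⟶ X := Over.homMk (𝔸(PUnit.{u+1}; X.left) ↘ X.left) rfl
  let pr := qf.left
  let z : Γ(Q.left, ⊤) := AffineSpace.coord X.left PUnit.unit
  let f : Γ(Q.left, ⊤) := z * (pr.appTop x - z) * (1 + z * pr.appTop y)
  let W : Over S := Over.mk ((Q.left.basicOpen f).ι ≫ Q.hom)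
  let v : W ⟶ Q := Over.homMk (Q.left.basicOpen f).ι rfl
  have hfl : Flat (v ≫ qf).left := by
    have := flat_affineSpace PUnit.{u+1} X.left
    rw [Over.comp_left]
    exact inferInstanceAs (Flat ((Q.left.basicOpen f).ι ≫ (𝔸(PUnit.{u+1}; X.left) ↘ X.left)))
  have hp : Surjective (v ≫ qf).left := by
    refine ⟨fun x₀ => ?_⟩
    let L := RatFunc (X.left.residueField x₀)
    let ι₀ : CommRingCat.of (X.left.residueField x₀) ⟶ CommRingCat.of L :=
      CommRingCat.ofHom (algebraMap _ _)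
    let l : Spec (CommRingCat.of L) ⟶ X.left := Spec.map ι₀ ≫ X.left.fromSpecResidueField x₀
    let Lo : Over S := Over.mk (l ≫ X.hom)
    let lo : Lo ⟶ X := Over.homMk l rfl
    let e := (Scheme.ΓSpecIso (CommRingCat.of L)).inv.hom
    let zt : Γ(Lo.left, ⊤) := e RatFunc.X
    let σ : Lo ⟶ Q := Over.homMk (AffineSpace.homOfVector l fun _ => zt) (by
      show _ ≫ (𝔸(PUnit.{u+1}; X.left) ↘ X.left) ≫ X.hom = _
      rw [AffineSpace.homOfVector_over_assoc]
      rfl)
    have hfac : ∀ a : Γ(X.left, ⊤), ∃ b : X.left.residueField x₀,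
        lo.left.appTop a = e (algebraMap _ L b) := by
      intro a
      refine ⟨(Scheme.ΓSpecIso (X.left.residueField x₀)).hom ((X.left.fromSpecResidueField x₀).appTop a), ?_⟩
      show (Spec.map ι₀ ≫ X.left.fromSpecResidueField x₀).appTop a = _
      rw [Scheme.Hom.comp_appTop]
      have := Scheme.ΓSpecIso_naturality ι₀
      rw [← Iso.eq_comp_inv, Category.assoc] at this
      exact congr($this _)
    obtain ⟨bx, hbx⟩ := hfac x
    obtain ⟨by', hby⟩ := hfac y
    have hσz : σ.left.appTop z = zt := by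
      exact AffineSpace.homOfVector_appTop_coord _ _ _
    have hσp : ∀ a, σ.left.appTop (pr.appTop a) = lo.left.appTop a := by
      intro a
      have : σ.left ≫ pr = lo.left := AffineSpace.homOfVector_over _ _
      rw [← this, Scheme.Hom.comp_appTop]; rfl
    have hne : ∀ P : Polynomial (X.left.residueField x₀), P ≠ 0 →
        IsUnit (e (algebraMap _ L P)) := fun P hP =>
      (isUnit_iff_ne_zero.mpr (fun h => hP (RatFunc.algebraMap_injective _ (h.trans (map_zero _).symm)))).map e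
    have hC : ∀ b : X.left.residueField x₀, algebraMap (X.left.residueField x₀) L b =
        algebraMap (Polynomial (X.left.residueField x₀)) L (Polynomial.C b) := fun b =>
      IsScalarTower.algebraMap_apply _ (Polynomial (X.left.residueField x₀)) L b
    have hunit : IsUnit (σ.left.appTop f) := by
      simp only [f, map_mul, map_add, map_sub, map_one, hσz, hσp, hbx, hby]
      have k1 := hne Polynomial.X Polynomial.X_ne_zero
      have k2 := hne (Polynomial.C bx - Polynomial.X) (fun h => by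
        simpa using congrArg (fun q => Polynomial.coeff q 1) h)
      have k3 := hne (1 + Polynomial.X * Polynomial.C by') (fun h => by
        simpa using congrArg (fun q => Polynomial.coeff q 0) h)
      rw [map_sub, map_sub] at k2
      rw [map_add, map_add, map_one, map_one, map_mul, map_mul] at k3
      rw [RatFunc.algebraMap_X] at k1 k2 k3
      rw [← hC] at k2 k3
      exact (k1.mul k2).mul k3
    let pt₀ : Spec (CommRingCat.of L) := IsLocalRing.closedPoint L
    have hmem : σ.left pt₀ ∈ Q.left.basicOpen f := by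
      have : σ.left ⁻¹ᵁ Q.left.basicOpen f = ⊤ := by
        rw [Scheme.preimage_basicOpen_top, Scheme.basicOpen_of_isUnit _ hunit]
      exact this.ge (x := pt₀) trivial
    refine ⟨⟨σ.left pt₀, hmem⟩, ?_⟩
    show pr (σ.left pt₀) = x₀
    rw [← Scheme.Hom.comp_apply, show σ.left ≫ pr = Spec.map ι₀ ≫ X.left.fromSpecResidueField x₀ from
      AffineSpace.homOfVector_over _ _]
    rw [Scheme.Hom.comp_apply, Scheme.fromSpecResidueField_apply]
  set π := v ≫ qf with hπ
  have : Epi π := by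
    have : Epi π.left := Flat.epi_of_flat_of_surjective π.left
    exact Over.epi_of_epi_left π
  rw [← cancel_epi π]
  simp only [MonObj.comp_mul, E.comp_P, E.comp_M, E.comp_itav, map_mul]
  have hfu : IsUnit (v.left.appTop f) := by
    have h : v.left ⁻¹ᵁ Q.left.basicOpen f = ⊤ := (Q.left.basicOpen f).ι_preimage_self
    rw [Scheme.preimage_basicOpen_top] at h
    refine W.left.toRingedSpace.isUnit_of_isUnit_germ ⊤ _ fun w _ => ?_
    exact (Scheme.mem_basicOpen_top _ _ _).mp (h.ge (x := w) trivial)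
  simp only [f, map_mul, map_add, map_sub, map_one] at hfu
  have hpa : ∀ a, v.left.appTop (pr.appTop a) = π.left.appTop a := by
    intro a; rw [hπ, Over.comp_left, Scheme.Hom.comp_appTop]; rfl
  rw [hpa, hpa] at hfu
  obtain ⟨h12, h3⟩ := IsUnit.mul_iff.mp hfu
  obtain ⟨h2, h1⟩ := IsUnit.mul_iff.mp h12
  have hu' : ((Units.map π.left.appTop.hom.toMonoidHom u : (Γ(W.left, ⊤))ˣ) : Γ(W.left, ⊤)) =
      1 + π.left.appTop x * π.left.appTop y := by
    show π.left.appTop (u : Γ(X.left, ⊤)) = _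
    rw [hu, map_add, map_one, map_mul]
  have := (E.rel W).rule_split (E.W_eq W) (π.left.appTop x) (π.left.appTop y) _ h1.unit h2.unit h3.unit hu'
    (by rw [IsUnit.unit_spec, IsUnit.unit_spec, sub_add_cancel]) (by rw [IsUnit.unit_spec, IsUnit.unit_spec])
  rw [← map_inv] at this
  exact this

/-- The negation of 𝔾_a followed by `fα`, conjugated. -/
def RelData.pm : Red.Ga S ⟶ H := (E.rel (Red.Ga S)).M (Red.gaFn (𝟙 (Red.Ga S)))

lemma RelData.pm_eq {X : Over S} (y : X ⟶ Red.Ga S) : y ≫ E.pm = (E.rel X).M (Red.gaFn y) := by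
  rw [RelData.pm, E.comp_M, ← ga_comp, Category.comp_id]

lemma RelData.isMonHom_pm : IsMonHom E.pm :=
  isMonHom_of_mul _ fun a b => by rw [E.pm_eq, E.pm_eq, E.pm_eq, ga_mul, Rel.M_add]

/-- The rank one system in the target. -/
def RelData.sys : Sys S H T where
  i := E.fT
  α := D.α
  av := D.av
  pp := E.fα
  pm := E.pm
  hm := E.isMonHom_pm
  hpp X t x := by
    refine ⟨gaPt (Red.gmFn (t ≫ D.α) * Red.gaFn x), ?_, gaFn_gaPt _⟩
    exact (E.conjP X t x _ (gaFn_gaPt _)).symm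
  hpm X t y := by
    refine ⟨gaPt ((↑((D.rk X).χ t)⁻¹ : Γ(X.left, ⊤)) * Red.gaFn y), ?_, ?_⟩
    · rw [E.pm_eq, E.pm_eq, gaFn_gaPt]
      exact ((E.rel X).conjM t _).symm
    · rw [gaFn_gaPt, ← D.χ_val, mul_right_comm, Units.inv_mul, _root_.one_mul]
  h2 := D.h2
  hF X x y hxy := by
    obtain ⟨u, hu⟩ := hxy
    refine ⟨gaPt ((↑u⁻¹ : Γ(X.left, ⊤)) * Red.gaFn x), gaPt ((↑u⁻¹ : Γ(X.left, ⊤)) * Red.gaFn y),
      gmPt u, by rw [gmFn_gmPt, hu], ?_, ?_, ?_⟩
    · rw [gaFn_gaPt, gmFn_gmPt, mul_right_comm, Units.inv_mul, _root_.one_mul]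
    · rw [gaFn_gaPt, gmFn_gmPt, mul_right_comm, Units.inv_mul, _root_.one_mul]
    · have e := E.rule X (Red.gaFn x) (Red.gaFn y) u hu
      rw [E.pm_eq, E.pm_eq, gaFn_gaPt]
      have hx : x ≫ E.fα = (E.rel X).P (Red.gaFn x) := by
        show _ = gaPt _ ≫ E.fα
        rw [gaPt_gaFn]
      rw [hx, e]
      show _ = _ * (gmPt u ≫ D.av ≫ E.fT) * _
      rw [← Category.assoc]
      rfl

end Groth.Agent.CellHom
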